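import Mathlib
import Cfsg.Agent.Lib.GeomClasses.Basic

/-!
Vector spaces over an extension field inside a matrix group over the ground field: rank-one maps over the
extension, their determinants, lines, and functionals.
-/

set_option autoImplicit false
set_option linter.unusedSectionVars false

namespace CfsgLib.ExtFieldMax

open Matrix Module
open scoped MatrixGroups

variable {F : Type*} [Field F] {n : ℕ}
variable {E : Type*} [Field E] [Algebra F E] [Module E (Fin n → F)] [IsScalarTower F E (Fin n → F)]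

/-- The matrix of the map `x ↦ φ x • a` for a functional over the extension field. -/
noncomputable def mat (φ : (Fin n → F) →ₗ[E] E) (a : Fin n → F) : Matrix (Fin n) (Fin n) F :=
  LinearMap.toMatrix' ((φ.smulRight a).restrictScalars F)

theorem mat_mulVec (φ : (Fin n → F) →ₗ[E] E) (a x : Fin n → F) : mat φ a *ᵥ x = φ x • a := by
  rw [mat, LinearMap.toMatrix'_mulVec]; rfl

theorem det_one_add_mat (φ : (Fin n → F) →ₗ[E] E) (a : Fin n → F) :
    (1 + mat φ a).det = Algebra.norm F (1 + φ a) := by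
  have : Module.Finite E (Fin n → F) := Module.Finite.of_restrictScalars_finite F E _
  rw [← LinearMap.det_toLin', ← LinearMap.transvection.det φ a, ← LinearMap.det_restrictScalars]
  congr 1
  refine LinearMap.ext fun x => ?_
  rw [Matrix.toLin'_apply, Matrix.add_mulVec, Matrix.one_mulVec, mat_mulVec]
  rfl

/-- A functional with prescribed value off a subspace and vanishing on it. -/
theorem exists_fun {p : Submodule E (Fin n → F)} {x : Fin n → F} (hx : x ∉ p) (c : E) :
    ∃ φ : (Fin n → F) →ₗ[E] E, φ x = c ∧ ∀ y ∈ p, φ y = 0 := by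
  obtain ⟨f, hf, hfp⟩ := p.exists_le_ker_of_notMem hx
  exact ⟨(c / f x) • f, by simp [div_mul_cancel₀ _ hf], fun y hy => by
    have : f y = 0 := hfp hy
    simp [this]⟩

/-- Prescribed values at two independent vectors. -/
theorem exists_fun₂ {a b : Fin n → F} (ha : a ≠ 0) (hb : ∀ c : E, b ≠ c • a) (s t : E) :
    ∃ φ : (Fin n → F) →ₗ[E] E, φ a = s ∧ φ b = t := by
  have hb0 : b ∉ Submodule.span E {a} := fun h => by
    obtain ⟨c, rfl⟩ := Submodule.mem_span_singleton.1 h
    exact hb c rfl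
  have ha0 : a ∉ Submodule.span E {b} := fun h => by
    obtain ⟨c, hc⟩ := Submodule.mem_span_singleton.1 h
    have hc0 : c ≠ 0 := fun h0 => ha (by rw [← hc, h0, zero_smul])
    exact hb c⁻¹ (by rw [← hc, smul_smul, inv_mul_cancel₀ hc0, one_smul])
  obtain ⟨φ, h1, h2⟩ := exists_fun ha0 s
  obtain ⟨ψ, h3, h4⟩ := exists_fun hb0 t
  exact ⟨φ + ψ, by simp [h1, h4 a (Submodule.mem_span_singleton_self a)],
    by simp [h3, h2 b (Submodule.mem_span_singleton_self b)]⟩

/-- A functional with prescribed value at a vector and vanishing at another one. -/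
theorem exists_fun_line {a b : Fin n → F} (hb : ∀ c : E, b ≠ c • a) (t : E) :
    ∃ φ : (Fin n → F) →ₗ[E] E, φ a = 0 ∧ φ b = t := by
  have hb0 : b ∉ Submodule.span E {a} := fun h => by
    obtain ⟨c, rfl⟩ := Submodule.mem_span_singleton.1 h
    exact hb c rfl
  obtain ⟨φ, h1, h2⟩ := exists_fun hb0 t
  exact ⟨φ, h2 a (Submodule.mem_span_singleton_self a), h1⟩

variable (E) in
/-- The line over the extension field through `a`, as a subspace over the ground field. -/
def line (a : Fin n → F) : Submodule F (Fin n → F) :=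
  (Submodule.span E {a}).restrictScalars F

theorem mem_line {a x : Fin n → F} : x ∈ line E a ↔ ∃ c : E, c • a = x :=
  Submodule.mem_span_singleton

theorem self_mem_line (a : Fin n → F) : a ∈ line E a := Submodule.mem_span_singleton_self a

theorem not_mem_line {a x : Fin n → F} (h : x ∉ line E a) : ∀ c : E, x ≠ c • a :=
  fun c hc => h (mem_line.2 ⟨c, hc.symm⟩)

theorem line_eq {a b : Fin n → F} (hb : b ∈ line E a) (hb0 : b ≠ 0) : line E b = line E a := by
  obtain ⟨c, rfl⟩ := mem_line.1 hb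
  have hc : c ≠ 0 := fun h => hb0 (by rw [h, zero_smul])
  exact congrArg (Submodule.restrictScalars F) (Submodule.span_singleton_smul_eq (Ne.isUnit hc) a)

theorem finrank_line {a : Fin n → F} (ha : a ≠ 0) : finrank F (line E a) = finrank F E :=
  ((LinearEquiv.toSpanNonzeroSingleton E (Fin n → F) a ha).restrictScalars F).finrank_eq.symm

/-- The subspace carried by an invertible matrix. -/
def img (g : GL (Fin n) F) (S : Submodule F (Fin n → F)) : Submodule F (Fin n → F) :=
  S.map (Matrix.toLin' (g : Matrix (Fin n) (Fin n) F))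

theorem toLin'_injective (g : GL (Fin n) F) :
    Function.Injective (Matrix.toLin' (g : Matrix (Fin n) (Fin n) F)) := fun x y h =>
  GeomClasses.gl_mulVec_injective g (by simpa using h)

theorem mem_img {g : GL (Fin n) F} {S : Submodule F (Fin n → F)} {x : Fin n → F} :
    x ∈ img g S ↔ ((g⁻¹ : GL (Fin n) F) : Matrix (Fin n) (Fin n) F) *ᵥ x ∈ S := by
  rw [img, Submodule.mem_map]
  constructor
  · rintro ⟨y, hy, rfl⟩
    rw [Matrix.toLin'_apply, GeomClasses.gl_inv_mulVec_mulVec]
    exact hy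
  · exact fun h => ⟨_, h, by rw [Matrix.toLin'_apply, GeomClasses.gl_mulVec_inv_mulVec]⟩

theorem mulVec_mem_img {g : GL (Fin n) F} {S : Submodule F (Fin n → F)} {x : Fin n → F} (hx : x ∈ S) :
    (g : Matrix (Fin n) (Fin n) F) *ᵥ x ∈ img g S := by
  rw [mem_img, GeomClasses.gl_inv_mulVec_mulVec]; exact hx

theorem finrank_img (g : GL (Fin n) F) (S : Submodule F (Fin n → F)) : finrank F (img g S) = finrank F S :=
  (Submodule.equivMapOfInjective _ (toLin'_injective g) S).finrank_eq.symm

theorem img_mul (g h : GL (Fin n) F) (S : Submodule F (Fin n → F)) : img (g * h) S = img g (img h S) := by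
  rw [img, img, img, ← Submodule.map_comp, ← Matrix.toLin'_mul, Units.val_mul]

theorem img_inf (g : GL (Fin n) F) (S T : Submodule F (Fin n → F)) : img g (S ⊓ T) = img g S ⊓ img g T :=
  Submodule.map_inf _ (toLin'_injective g)

/-- The matrices of the members of a subgroup. -/
def In (M : Subgroup (GL (Fin n) F)) (X : Matrix (Fin n) (Fin n) F) : Prop :=
  ∃ g ∈ M, (g : Matrix (Fin n) (Fin n) F) = X

theorem In.mul {M : Subgroup (GL (Fin n) F)} {X Y : Matrix (Fin n) (Fin n) F} (hX : In M X) (hY : In M Y) :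
    In M (X * Y) := by
  obtain ⟨g, hg, rfl⟩ := hX
  obtain ⟨h, hh, rfl⟩ := hY
  exact ⟨g * h, M.mul_mem hg hh, Units.val_mul g h⟩

theorem In.inv {M : Subgroup (GL (Fin n) F)} {X Y : Matrix (Fin n) (Fin n) F} (hX : In M X) (h : X * Y = 1) :
    In M Y := by
  obtain ⟨g, hg, rfl⟩ := hX
  refine ⟨g⁻¹, M.inv_mem hg, ?_⟩
  rw [← mul_one (((g⁻¹ : GL (Fin n) F) : Matrix (Fin n) (Fin n) F)), ← h, ← mul_assoc, Units.inv_mul, one_mul]

theorem In.det_eq_one {M : Subgroup (GL (Fin n) F)} (hM : M ≤ Cfsg.Geo.specialLinear (Fin n) F)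
    {X : Matrix (Fin n) (Fin n) F} (hX : In M X) : X.det = 1 := by
  obtain ⟨g, hg, rfl⟩ := hX
  exact GeomClasses.mem_specialLinear.1 (hM hg)

variable (E) in
/-- The subgroup contains the semilinear elements of determinant one. -/
def HasSemi (M : Subgroup (GL (Fin n) F)) : Prop :=
  ∀ g : GL (Fin n) F, (g : Matrix (Fin n) (Fin n) F).det = 1 →
    (∃ σ : E → E, ∀ (c : E) (x : Fin n → F),
      (g : Matrix (Fin n) (Fin n) F) *ᵥ (c • x) = σ c • ((g : Matrix (Fin n) (Fin n) F) *ᵥ x)) → g ∈ M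

theorem HasSemi.in_of_semilinear {M : Subgroup (GL (Fin n) F)} (hM : HasSemi E M)
    {X : Matrix (Fin n) (Fin n) F} (hd : X.det = 1) (σ : E → E)
    (hσ : ∀ (c : E) (x : Fin n → F), X *ᵥ (c • x) = σ c • (X *ᵥ x)) : In M X := by
  refine ⟨GeneralLinearGroup.mkOfDetNeZero X (by rw [hd]; exact one_ne_zero), hM _ ?_ ⟨σ, ?_⟩, rfl⟩
  · exact hd
  · exact hσ

theorem HasSemi.in_mat {M : Subgroup (GL (Fin n) F)} (hM : HasSemi E M) {φ : (Fin n → F) →ₗ[E] E}
    {a : Fin n → F} (h : Algebra.norm F (1 + φ a) = 1) : In M (1 + mat φ a) := by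
  refine hM.in_of_semilinear (by rw [det_one_add_mat, h]) id fun c x => ?_
  simp only [Matrix.add_mulVec, Matrix.one_mulVec, mat_mulVec, map_smul, smul_eq_mul, id_eq, smul_add, mul_smul]

theorem HasSemi.in_tv {M : Subgroup (GL (Fin n) F)} (hM : HasSemi E M) {φ : (Fin n → F) →ₗ[E] E}
    {a : Fin n → F} (h : φ a = 0) : In M (1 + mat φ a) :=
  hM.in_mat (by rw [h, add_zero, map_one])

/-- Independent vectors are moved to one another. -/
theorem HasSemi.exists_move {M : Subgroup (GL (Fin n) F)} (hM : HasSemi E M) {b b' : Fin n → F}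
    (hb : b ≠ 0) (hb' : ∀ c : E, b' ≠ c • b) :
    ∃ g ∈ M, (g : Matrix (Fin n) (Fin n) F) *ᵥ b = b' ∧
      ∀ (c : E) (x : Fin n → F), (g : Matrix (Fin n) (Fin n) F) *ᵥ (c • x) = c • ((g : Matrix (Fin n) (Fin n) F) *ᵥ x) := by
  have hne : ∀ c : E, b ≠ c • (b' - b) := fun c hc => by
    have hc0 : c ≠ 0 := fun h => by
      rw [h, zero_smul] at hc
      exact hb hc
    refine hb' (c⁻¹ + 1) ?_
    rw [smul_sub, eq_comm, sub_eq_iff_eq_add] at hc
    have := congrArg (fun z => c⁻¹ • z) hc
    simp only [smul_add, smul_smul, inv_mul_cancel₀ hc0, one_smul] at this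
    rw [this, add_smul, one_smul]
  obtain ⟨φ, h1, h2⟩ := exists_fun_line hne (1 : E)
  obtain ⟨g, hg, hgv⟩ := hM.in_tv (φ := φ) (a := b' - b) h1
  refine ⟨g, hg, ?_, fun c x => ?_⟩
  · rw [hgv, Matrix.add_mulVec, Matrix.one_mulVec, mat_mulVec, h2, one_smul, add_sub_cancel]
  · simp only [hgv, Matrix.add_mulVec, Matrix.one_mulVec, mat_mulVec, map_smul, smul_eq_mul, smul_add, mul_smul]

end CfsgLib.ExtFieldMax
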