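import Mathlib
import Cfsg.Agent.Lib.ExtFieldMax.Basic

/-!
An overgroup of the semilinear group that moves the spread of lines over the extension field meets two lines in a
hyperplane of each, and then contains a transvection unless the ground field has two elements, the degree is two and
the space has dimension four.
-/

set_option autoImplicit false
set_option linter.unusedSectionVars false
set_option linter.unusedSimpArgs false

namespace CfsgLib.ExtFieldMax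

open Matrix Module
open scoped MatrixGroups

variable {F : Type*} [Field F] {n : ℕ}
variable {E : Type*} [Field E] [Algebra F E] [Module E (Fin n → F)] [IsScalarTower F E (Fin n → F)]

/-- Two adjacent lines: a translate of the line through `v` meets the line through `d` in a hyperplane of both. -/
structure Adapted (E : Type*) [Field E] [Algebra F E] [Module E (Fin n → F)] [IsScalarTower F E (Fin n → F)]
    (M : Subgroup (GL (Fin n) F)) where
  g : GL (Fin n) F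
  hg : g ∈ M
  v : Fin n → F
  hv : v ≠ 0
  d : Fin n → F
  hgv : (g : Matrix (Fin n) (Fin n) F) *ᵥ v = d
  w : Fin n → F
  hwL' : w ∈ img g (line E v)
  hwL : w ∉ line E d
  ell : Fin n → F
  hellL : ell ∈ line E d
  hellL' : ell ∉ img g (line E v)
  span' : img g (line E v) ≤ (line E d ⊓ img g (line E v)) ⊔ Submodule.span F {w}
  span : line E d ≤ (line E d ⊓ img g (line E v)) ⊔ Submodule.span F {ell}
  hdim : finrank F ↥(line E d ⊓ img g (line E v)) + 1 = finrank F E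

/-- The pairs of distinct lines in the orbit of the spread. -/
def pairs (E : Type*) [Field E] [Algebra F E] [Module E (Fin n → F)] [IsScalarTower F E (Fin n → F)]
    (M : Subgroup (GL (Fin n) F)) : Set (GL (Fin n) F × (Fin n → F) × (Fin n → F)) :=
  {p | p.1 ∈ M ∧ p.2.1 ≠ 0 ∧ p.2.2 ≠ 0 ∧ img p.1 (line E p.2.1) ≠ line E p.2.2}

theorem exists_adapted [Fintype F] (hr : (finrank F E).Prime) {M : Subgroup (GL (Fin n) F)} (hM : HasSemi E M)
    (hbreak : ∃ g ∈ M, ∃ v : Fin n → F, v ≠ 0 ∧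
      img g (line E v) ≠ line E ((g : Matrix (Fin n) (Fin n) F) *ᵥ v)) :
    Nonempty (Adapted E M) := by
  classical
  obtain ⟨g₀, hg₀, v₀, hv₀, hne₀⟩ := hbreak
  have hmem₀ : (g₀, v₀, (g₀ : Matrix (Fin n) (Fin n) F) *ᵥ v₀) ∈ pairs E M :=
    ⟨hg₀, hv₀, GeomClasses.gl_mulVec_ne_zero g₀ hv₀, hne₀⟩
  obtain ⟨⟨g, v, u⟩, ⟨hg, hv, hu, hne⟩, hmax⟩ := Set.exists_max_image (pairs E M)
    (fun p => finrank F ↥(line E p.2.2 ⊓ img p.1 (line E p.2.1))) (Set.toFinite _) ⟨_, hmem₀⟩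
  simp only at hg hv hu hne hmax
  have hpos : 0 < finrank F ↥(line E u ⊓ img g (line E v)) := by
    refine lt_of_lt_of_le ?_ (hmax _ hmem₀)
    have hz : (g₀ : Matrix (Fin n) (Fin n) F) *ᵥ v₀ ∈
        line E ((g₀ : Matrix (Fin n) (Fin n) F) *ᵥ v₀) ⊓ img g₀ (line E v₀) :=
      ⟨self_mem_line _, mulVec_mem_img (self_mem_line _)⟩
    refine Nat.pos_of_ne_zero fun h => GeomClasses.gl_mulVec_ne_zero g₀ hv₀ ?_
    rw [Submodule.finrank_eq_zero] at h
    rw [h] at hz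
    exact (Submodule.mem_bot F).1 hz
  obtain ⟨d, hd, hd0⟩ := Submodule.exists_mem_ne_zero_of_ne_bot (fun h => by
    rw [h, finrank_bot] at hpos
    exact lt_irrefl 0 hpos : line E u ⊓ img g (line E v) ≠ ⊥)
  set v' : Fin n → F := ((g⁻¹ : GL (Fin n) F) : Matrix (Fin n) (Fin n) F) *ᵥ d with hv'
  have hv'0 : v' ≠ 0 := GeomClasses.gl_mulVec_ne_zero _ hd0
  have hlu : line E d = line E u := line_eq hd.1 hd0
  have hlv : line E v' = line E v := line_eq (mem_img.1 hd.2) hv'0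
  rw [← hlu, ← hlv] at hne hmax
  have hgv' : (g : Matrix (Fin n) (Fin n) F) *ᵥ v' = d := GeomClasses.gl_mulVec_inv_mulVec g d
  set S : Submodule F (Fin n → F) := img g (line E v') with hS
  have hdimS : finrank F S = finrank F E := by rw [hS, finrank_img, finrank_line hv'0]
  have hdimL : finrank F (line E d) = finrank F E := finrank_line hd0
  have hnle : ¬ S ≤ line E d := fun h => hne (Submodule.eq_of_le_of_finrank_eq h (hdimS.trans hdimL.symm))
  have hnle' : ¬ line E d ≤ S := fun h => hne (Submodule.eq_of_le_of_finrank_eq h (hdimL.trans hdimS.symm)).symm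
  obtain ⟨w, hwS, hwL⟩ := Set.not_subset.1 hnle
  obtain ⟨ell, hellL, hellS⟩ := Set.not_subset.1 hnle'
  have hdS : d ∈ S := hgv' ▸ mulVec_mem_img (self_mem_line v')
  -- maximality: the translations keeping `w` in `S` keep all of `S`
  have key : ∀ φ : (Fin n → F) →ₗ[E] E, φ d = 0 → φ w • d ∈ S → ∀ z ∈ S, φ z • d ∈ S := by
    intro φ hφd hφw
    obtain ⟨gx, hgx, hgxv⟩ := hM.in_tv (φ := φ) (a := d) hφd
    have hx : ∀ z, (gx : Matrix (Fin n) (Fin n) F) *ᵥ z = z + φ z • d := fun z => by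
      rw [hgxv, Matrix.add_mulVec, Matrix.one_mulVec, mat_mulVec]
    have heq : img gx S = S := by
      by_contra hneq
      have hne' : img (g⁻¹ * gx * g) (line E v') ≠ line E v' := fun h => hneq (by
        calc img gx S = img (g * (g⁻¹ * gx * g)) (line E v') := by
              rw [← mul_assoc, ← mul_assoc, mul_inv_cancel, one_mul, img_mul]
          _ = S := by rw [img_mul, h])
      have hle := hmax (g⁻¹ * gx * g, v', v') ⟨M.mul_mem (M.mul_mem (M.inv_mem hg) hgx) hg, hv'0, hv'0, hne'⟩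
      simp only at hle
      rw [← finrank_img g (line E v' ⊓ _), img_inf, ← img_mul,
        ← mul_assoc, ← mul_assoc, mul_inv_cancel, one_mul, img_mul] at hle
      have hlt : line E d ⊓ S < S ⊓ img gx S := by
        refine SetLike.lt_iff_le_and_exists.2 ⟨?_, (gx : Matrix (Fin n) (Fin n) F) *ᵥ w, ?_, ?_⟩
        · rintro z ⟨hzL, hzS⟩
          refine ⟨hzS, ?_⟩
          obtain ⟨c, rfl⟩ := mem_line.1 hzL
          have := mulVec_mem_img (g := gx) hzS
          rwa [hx, map_smul, hφd, smul_zero, zero_smul, add_zero] at this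
        · refine ⟨?_, mulVec_mem_img hwS⟩
          rw [hx]; exact S.add_mem hwS hφw
        · rintro ⟨h, -⟩
          rw [hx] at h
          exact hwL ((Submodule.add_mem_iff_left _ (mem_line.2 ⟨_, rfl⟩)).1 h)
      exact absurd hle (not_le.2 (Submodule.finrank_lt_finrank_of_lt hlt))
    intro z hz
    have := mulVec_mem_img (g := gx) hz
    rw [heq, hx] at this
    exact (Submodule.add_mem_iff_right _ hz).1 this
  let D : Submodule F E := S.comap ((LinearMap.toSpanSingleton E (Fin n → F) d).restrictScalars F)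
  have hD : ∀ {c : E}, c ∈ D ↔ c • d ∈ S := Iff.rfl
  let stab : Subalgebra F E :=
    { carrier := {μ | ∀ c ∈ D, μ * c ∈ D}
      mul_mem' := fun {a b} ha hb c hc => by rw [mul_assoc]; exact ha _ (hb c hc)
      one_mem' := fun c hc => by rwa [one_mul]
      add_mem' := fun {a b} ha hb c hc => by rw [add_mul]; exact D.add_mem (ha c hc) (hb c hc)
      zero_mem' := fun c hc => by rw [zero_mul]; exact D.zero_mem
      algebraMap_mem' := fun a c hc => by rw [← Algebra.smul_def]; exact D.smul_mem a hc }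
  have hstab : stab = ⊥ := by
    have := Subalgebra.isSimpleOrder_of_finrank_prime F E hr
    rcases eq_bot_or_eq_top stab with h | h
    · exact h
    · exfalso
      have h1 : (1 : E) ∈ D := hD.2 (by rwa [one_smul])
      obtain ⟨c, hc⟩ := mem_line.1 hellL
      have : c ∈ stab := h ▸ Algebra.mem_top
      have := this 1 h1
      rw [mul_one] at this
      exact hellS (hc ▸ hD.1 this)
  have span' : S ≤ (line E d ⊓ S) ⊔ Submodule.span F {w} := by
    intro z hz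
    have hcomb : ∃ a b : E, z = a • d + b • w := by
      by_contra hno
      push Not at hno
      obtain ⟨φ, h1, h2⟩ : ∃ φ : (Fin n → F) →ₗ[E] E,
          φ z = 1 ∧ ∀ y ∈ Submodule.span E ({d, w} : Set (Fin n → F)), φ y = 0 :=
        exists_fun (fun h => by
          obtain ⟨a, b, hab⟩ := Submodule.mem_span_pair.1 h
          exact hno a b hab.symm) 1
      have hφd : φ d = 0 := h2 d (Submodule.subset_span (by simp))
      have hφw : φ w = 0 := h2 w (Submodule.subset_span (by simp))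
      obtain ⟨c, hc⟩ := mem_line.1 hellL
      have := key (c • φ) (by simp [hφd]) (by simp [hφw]) z hz
      rw [LinearMap.smul_apply, h1, smul_eq_mul, mul_one, hc] at this
      exact hellS this
    obtain ⟨a, b, rfl⟩ := hcomb
    have hb : b ∈ stab := by
      intro c hc
      obtain ⟨φ, h1, h2⟩ := exists_fun_line (not_mem_line hwL) c
      have := key φ h1 (by rw [h2]; exact hc) _ hz
      rw [map_add, map_smul, map_smul, h1, h2, smul_zero, zero_add, smul_eq_mul] at this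
      exact this
    rw [hstab] at hb
    obtain ⟨b₀, rfl⟩ := Algebra.mem_bot.1 hb
    rw [algebraMap_smul] at hz ⊢
    refine Submodule.add_mem_sup ⟨mem_line.2 ⟨a, rfl⟩, ?_⟩ (Submodule.smul_mem _ _ (Submodule.mem_span_singleton_self w))
    exact (Submodule.add_mem_iff_left _ (S.smul_mem b₀ hwS)).1 hz
  have hle1 : finrank F S ≤ finrank F ↥(line E d ⊓ S) + 1 := by
    refine (Submodule.finrank_mono span').trans ((Submodule.finrank_add_le_finrank_add_finrank _ _).trans ?_)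
    gcongr
    exact (finrank_span_le_card _).trans (by simp)
  have hlt : finrank F ↥(line E d ⊓ S) < finrank F (line E d) :=
    Submodule.finrank_lt_finrank_of_lt (lt_of_le_of_ne inf_le_left fun h => hnle' (h ▸ inf_le_right))
  have hdim : finrank F ↥(line E d ⊓ S) + 1 = finrank F E := by omega
  refine ⟨⟨g, hg, v', hv'0, d, hgv', w, hwS, hwL, ell, hellL, hellS, span', ?_, hdim⟩⟩
  have hdisj : line E d ⊓ S ⊔ Submodule.span F {ell} ≤ line E d :=
    sup_le inf_le_left ((Submodule.span_singleton_le_iff_mem _ _).2 hellL)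
  refine (Submodule.eq_of_le_of_finrank_le hdisj ?_).ge
  have hlt2 : line E d ⊓ S < line E d ⊓ S ⊔ Submodule.span F {ell} :=
    lt_of_le_of_ne le_sup_left fun h => hellS
      ((h.ge (Submodule.mem_sup_right (Submodule.mem_span_singleton_self ell))).2)
  have := Submodule.finrank_lt_finrank_of_lt hlt2
  omega

/-! ### Commutators -/

theorem comm_of_mul_eq_zero {R : Type*} [Ring R] {A B : R} (hA : A * A = 0) (hB : B * B = 0) (hBA : B * A = 0) :
    (1 + A) * (1 + B) * (1 - A) * (1 - B) = 1 + A * B := by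
  have hA' : ∀ z, A * (A * z) = 0 := fun z => by rw [← mul_assoc, hA, zero_mul]
  have hB' : ∀ z, B * (B * z) = 0 := fun z => by rw [← mul_assoc, hB, zero_mul]
  have hBA' : ∀ z, B * (A * z) = 0 := fun z => by rw [← mul_assoc, hBA, zero_mul]
  simp only [add_mul, mul_add, sub_mul, mul_sub, one_mul, mul_one, mul_assoc, hA, hB, hBA, hA', hB', hBA',
    mul_zero, zero_mul, add_zero, zero_add, sub_zero]
  abel

theorem comm_of_mid {R : Type*} [Ring R] {A B : R} (hA : A * A = 0) (hB : B * B = 0) (hBAB : B * (A * B) = 0) :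
    (1 + A) * (1 + B) * (1 - A) * (1 - B) = 1 + (A * B - B * A - A * (B * A)) := by
  have hA' : ∀ z, A * (A * z) = 0 := fun z => by rw [← mul_assoc, hA, zero_mul]
  have hB' : ∀ z, B * (B * z) = 0 := fun z => by rw [← mul_assoc, hB, zero_mul]
  have hBAB' : ∀ z, B * (A * (B * z)) = 0 := fun z => by
    rw [← mul_assoc, ← mul_assoc, mul_assoc B A B, hBAB, zero_mul]
  simp only [add_mul, mul_add, sub_mul, mul_sub, one_mul, mul_one, mul_assoc, hA, hB, hBAB, hA', hB', hBAB',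
    mul_zero, zero_mul, add_zero, zero_add, sub_zero]
  abel

theorem In.comm {M : Subgroup (GL (Fin n) F)} {A B : Matrix (Fin n) (Fin n) F} (hA : A * A = 0) (hB : B * B = 0)
    (hA' : In M (1 + A)) (hB' : In M (1 + B)) : In M ((1 + A) * (1 + B) * (1 - A) * (1 - B)) := by
  refine ((hA'.mul hB').mul (hA'.inv ?_)).mul (hB'.inv ?_)
  · rw [add_mul, one_mul, mul_sub, mul_one, hA]; abel
  · rw [add_mul, one_mul, mul_sub, mul_one, hB]; abel

/-- A non-zero square-zero matrix with one-dimensional image whose translate lies in the group gives a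
transvection. -/
theorem exists_tv {M : Subgroup (GL (Fin n) F)} {X : Matrix (Fin n) (Fin n) F} {δ x₀ : Fin n → F}
    (hδ : δ ≠ 0) (hX : ∀ x, ∃ c : F, X *ᵥ x = c • δ) (hx₀ : X *ᵥ x₀ ≠ 0) (hXX : X * X = 0) (hin : In M (1 + X)) :
    ∃ δ f : Fin n → F, δ ≠ 0 ∧ f ≠ 0 ∧ f ⬝ᵥ δ = 0 ∧ GeomClasses.tv δ f ∈ M := by
  choose c hc using hX
  refine ⟨δ, fun j => c (Pi.single j 1), hδ, ?_⟩
  have hv : X = vecMulVec δ (fun j => c (Pi.single j 1)) := by
    ext i j
    have := congrFun (hc (Pi.single j 1)) i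
    simp at this
    rw [vecMulVec_apply, this, mul_comm]
  have hXδ : X *ᵥ δ = 0 := by
    have h := congrArg (fun m => m *ᵥ x₀) hXX
    simp only [← Matrix.mulVec_mulVec, Matrix.zero_mulVec] at h
    rw [hc x₀, Matrix.mulVec_smul] at h
    rcases smul_eq_zero.1 h with h0 | h0
    · exact absurd (by rw [hc x₀, h0, zero_smul]) hx₀
    · exact h0
  have hf0 : (fun j => c (Pi.single j 1)) ⬝ᵥ δ = 0 := by
    rw [hv, Matrix.vecMulVec_mulVec] at hXδ
    obtain ⟨i, hi⟩ := Function.ne_iff.1 hδ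
    have := congrFun hXδ i
    exact (by simpa [hi] using this : δ i = 0 ∨ _).resolve_left hi
  refine ⟨fun h => hx₀ (by rw [hv, h]; simp), hf0, ?_⟩
  obtain ⟨t, ht, htv⟩ := hin
  have : t = GeomClasses.tv δ (fun j => c (Pi.single j 1)) := Units.ext (by rw [GeomClasses.tv_val hf0, htv, ← hv])
  rwa [← this]

variable {M : Subgroup (GL (Fin n) F)} (P : Adapted E M)

/-- A translation with centre the first line. -/
noncomputable abbrev Adapted.A (φ : (Fin n → F) →ₗ[E] E) : Matrix (Fin n) (Fin n) F := mat φ P.d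

/-- A translation with centre the second line. -/
noncomputable def Adapted.B (ψ : (Fin n → F) →ₗ[E] E) : Matrix (Fin n) (Fin n) F :=
  (P.g : Matrix (Fin n) (Fin n) F) * mat ψ P.v * ((P.g⁻¹ : GL (Fin n) F) : Matrix (Fin n) (Fin n) F)

theorem Adapted.A_mem_line (φ : (Fin n → F) →ₗ[E] E) (x : Fin n → F) : P.A φ *ᵥ x ∈ line E P.d := by
  rw [mat_mulVec]; exact mem_line.2 ⟨_, rfl⟩

theorem Adapted.A_line {φ : (Fin n → F) →ₗ[E] E} (hφ : φ P.d = 0) {x : Fin n → F} (hx : x ∈ line E P.d) :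
    P.A φ *ᵥ x = 0 := by
  obtain ⟨c, rfl⟩ := mem_line.1 hx
  rw [mat_mulVec, map_smul, hφ, smul_zero, zero_smul]

theorem Adapted.B_mulVec (ψ : (Fin n → F) →ₗ[E] E) (x : Fin n → F) :
    P.B ψ *ᵥ x = (P.g : Matrix (Fin n) (Fin n) F) *ᵥ
      (ψ (((P.g⁻¹ : GL (Fin n) F) : Matrix (Fin n) (Fin n) F) *ᵥ x) • P.v) := by
  rw [Adapted.B, ← Matrix.mulVec_mulVec, ← Matrix.mulVec_mulVec, mat_mulVec]

theorem Adapted.B_mem (ψ : (Fin n → F) →ₗ[E] E) (x : Fin n → F) : P.B ψ *ᵥ x ∈ img P.g (line E P.v) := by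
  rw [P.B_mulVec]; exact mulVec_mem_img (mem_line.2 ⟨_, rfl⟩)

theorem Adapted.B_img {ψ : (Fin n → F) →ₗ[E] E} (hψ : ψ P.v = 0) {x : Fin n → F} (hx : x ∈ img P.g (line E P.v)) :
    P.B ψ *ᵥ x = 0 := by
  obtain ⟨c, hc⟩ := mem_line.1 (mem_img.1 hx)
  rw [P.B_mulVec, ← hc, map_smul, hψ, smul_zero, zero_smul, Matrix.mulVec_zero]

theorem Adapted.AA {φ : (Fin n → F) →ₗ[E] E} (hφ : φ P.d = 0) : P.A φ * P.A φ = 0 :=
  Matrix.ext_of_mulVec_single fun i => by
    rw [← Matrix.mulVec_mulVec, P.A_line hφ (P.A_mem_line φ _), Matrix.zero_mulVec]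

theorem Adapted.BB {ψ : (Fin n → F) →ₗ[E] E} (hψ : ψ P.v = 0) : P.B ψ * P.B ψ = 0 :=
  Matrix.ext_of_mulVec_single fun i => by
    rw [← Matrix.mulVec_mulVec, P.B_img hψ (P.B_mem ψ _), Matrix.zero_mulVec]

theorem Adapted.in_B (hM : HasSemi E M) {ψ : (Fin n → F) →ₗ[E] E} (hψ : ψ P.v = 0) : In M (1 + P.B ψ) := by
  have h0 : In M (P.g : Matrix (Fin n) (Fin n) F) := ⟨P.g, P.hg, rfl⟩
  have h1 : In M ((P.g⁻¹ : GL (Fin n) F) : Matrix (Fin n) (Fin n) F) := ⟨P.g⁻¹, M.inv_mem P.hg, rfl⟩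
  have h := (h0.mul (hM.in_tv hψ)).mul h1
  rwa [Matrix.mul_add, mul_one, Matrix.add_mul, ← Units.val_mul, mul_inv_cancel, Units.val_one] at h

theorem Adapted.split {x : Fin n → F} (hx : x ∈ line E P.d) :
    ∃ y ∈ line E P.d ⊓ img P.g (line E P.v), ∃ c : F, x = y + c • P.ell := by
  obtain ⟨y, hy, z, hz, rfl⟩ := Submodule.mem_sup.1 (P.span hx)
  obtain ⟨c, rfl⟩ := Submodule.mem_span_singleton.1 hz
  exact ⟨y, hy, c, rfl⟩

theorem Adapted.split' {x : Fin n → F} (hx : x ∈ img P.g (line E P.v)) :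
    ∃ y ∈ line E P.d ⊓ img P.g (line E P.v), ∃ c : F, x = y + c • P.w := by
  obtain ⟨y, hy, z, hz, rfl⟩ := Submodule.mem_sup.1 (P.span' hx)
  obtain ⟨c, rfl⟩ := Submodule.mem_span_singleton.1 hz
  exact ⟨y, hy, c, rfl⟩

/-- The translation of the first line through `w` carries the second line onto the multiples of its value at `w`. -/
theorem Adapted.A_img {φ : (Fin n → F) →ₗ[E] E} (hφ : φ P.d = 0) {x : Fin n → F}
    (hx : x ∈ img P.g (line E P.v)) : ∃ c : F, P.A φ *ᵥ x = c • (P.A φ *ᵥ P.w) := by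
  obtain ⟨y, hy, c, rfl⟩ := P.split' hx
  exact ⟨c, by rw [Matrix.mulVec_add, P.A_line hφ hy.1, zero_add, Matrix.mulVec_smul]⟩

theorem Adapted.B_line {ψ : (Fin n → F) →ₗ[E] E} (hψ : ψ P.v = 0) {x : Fin n → F}
    (hx : x ∈ line E P.d) : ∃ c : F, P.B ψ *ᵥ x = c • (P.B ψ *ᵥ P.ell) := by
  obtain ⟨y, hy, c, rfl⟩ := P.split hx
  exact ⟨c, by rw [Matrix.mulVec_add, P.B_img hψ hy.2, zero_add, Matrix.mulVec_smul]⟩

theorem Adapted.exists_phi {δ : Fin n → F} (hδ : δ ∈ line E P.d) :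
    ∃ φ : (Fin n → F) →ₗ[E] E, φ P.d = 0 ∧ P.A φ *ᵥ P.w = δ := by
  obtain ⟨c, hc⟩ := mem_line.1 hδ
  obtain ⟨φ, h1, h2⟩ := exists_fun_line (not_mem_line P.hwL) c
  exact ⟨φ, h1, by rw [mat_mulVec, h2, hc]⟩

theorem Adapted.inv_ell_notMem : ((P.g⁻¹ : GL (Fin n) F) : Matrix (Fin n) (Fin n) F) *ᵥ P.ell ∉ line E P.v :=
  fun h => P.hellL' (mem_img.2 h)

theorem Adapted.exists_psi {ε : Fin n → F} (hε : ε ∈ img P.g (line E P.v)) :
    ∃ ψ : (Fin n → F) →ₗ[E] E, ψ P.v = 0 ∧ P.B ψ *ᵥ P.ell = ε := by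
  obtain ⟨c, hc⟩ := mem_line.1 (mem_img.1 hε)
  obtain ⟨ψ, h1, h2⟩ := exists_fun_line (not_mem_line P.inv_ell_notMem) c
  exact ⟨ψ, h1, by rw [P.B_mulVec, h2, hc, GeomClasses.gl_mulVec_inv_mulVec]⟩

theorem Adapted.d_mem : P.d ∈ line E P.d ⊓ img P.g (line E P.v) :=
  ⟨self_mem_line _, P.hgv ▸ mulVec_mem_img (self_mem_line _)⟩

theorem Adapted.d_ne : P.d ≠ 0 := P.hgv ▸ GeomClasses.gl_mulVec_ne_zero P.g P.hv

theorem Adapted.w_ne : P.w ≠ 0 := fun h => P.hwL (h ▸ Submodule.zero_mem _)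

include P in
/-- More than two lines' worth of room. -/
theorem Adapted.exists_tv_of_three (hM : HasSemi E M)
    (h3 : ∀ a b : Fin n → F, ∃ x, x ∉ Submodule.span E ({a, b} : Set (Fin n → F))) :
    ∃ δ f : Fin n → F, δ ≠ 0 ∧ f ≠ 0 ∧ f ⬝ᵥ δ = 0 ∧ GeomClasses.tv δ f ∈ M := by
  obtain ⟨φ, hφ, hφw⟩ := P.exists_phi P.d_mem.1
  set l : Fin n → F := ((P.g⁻¹ : GL (Fin n) F) : Matrix (Fin n) (Fin n) F) *ᵥ P.ell with hl
  obtain ⟨x, hx⟩ := h3 P.v l
  obtain ⟨cw, hcw⟩ := mem_line.1 (mem_img.1 P.hwL')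
  obtain ⟨ψ, h1, h2⟩ := exists_fun hx cw
  have hψ : ψ P.v = 0 := h2 _ (Submodule.subset_span (by simp))
  have hBl : P.B ψ *ᵥ P.ell = 0 := by
    rw [P.B_mulVec, ← hl, h2 l (Submodule.subset_span (by simp)), zero_smul, Matrix.mulVec_zero]
  have hBA : P.B ψ * P.A φ = 0 := Matrix.ext_of_mulVec_single fun i => by
    obtain ⟨c, hc⟩ := P.B_line hψ (P.A_mem_line φ (Pi.single i 1))
    rw [← Matrix.mulVec_mulVec, hc, hBl, smul_zero, Matrix.zero_mulVec]
  have hin := (In.comm (P.AA hφ) (P.BB hψ) (hM.in_tv hφ) (P.in_B hM hψ))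
  rw [comm_of_mul_eq_zero (P.AA hφ) (P.BB hψ) hBA] at hin
  refine exists_tv (δ := P.d) (x₀ := (P.g : Matrix (Fin n) (Fin n) F) *ᵥ x) P.d_ne (fun z => ?_) ?_ ?_ hin
  · obtain ⟨c, hc⟩ := P.A_img hφ (P.B_mem ψ z)
    exact ⟨c, by rw [← Matrix.mulVec_mulVec, hc, hφw]⟩
  · rw [← Matrix.mulVec_mulVec, P.B_mulVec, GeomClasses.gl_inv_mulVec_mulVec, h1, hcw,
      GeomClasses.gl_mulVec_inv_mulVec, hφw]
    exact P.d_ne
  · rw [mul_assoc, ← mul_assoc (P.B ψ), hBA, zero_mul, mul_zero]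

theorem smul_mat (s : F) (φ : (Fin n → F) →ₗ[E] E) (a : Fin n → F) :
    mat (algebraMap F E s • φ) a = s • mat φ a :=
  Matrix.ext_of_mulVec_single fun i => by
    rw [Matrix.smul_mulVec, mat_mulVec, mat_mulVec, LinearMap.smul_apply, smul_eq_mul, mul_smul, algebraMap_smul]

theorem Adapted.smul_B (s : F) (ψ : (Fin n → F) →ₗ[E] E) : P.B (algebraMap F E s • ψ) = s • P.B ψ := by
  rw [Adapted.B, smul_mat, Matrix.mul_smul, Matrix.smul_mul, Adapted.B]

include P in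
/-- More than two scalars. -/
theorem Adapted.exists_tv_of_scalar (hM : HasSemi E M) {s : F} (hs0 : s ≠ 0) (hs1 : s ≠ 1) :
    ∃ δ f : Fin n → F, δ ≠ 0 ∧ f ≠ 0 ∧ f ⬝ᵥ δ = 0 ∧ GeomClasses.tv δ f ∈ M := by
  obtain ⟨φ, hφ, hφw⟩ := P.exists_phi P.d_mem.1
  obtain ⟨ψ, hψ, hψl⟩ := P.exists_psi P.hwL'
  set A := P.A φ
  set B := P.B ψ
  have hAA : A * A = 0 := P.AA hφ
  have hBB : B * B = 0 := P.BB hψ
  have hBd : B *ᵥ P.d = 0 := P.B_img hψ P.d_mem.2
  have hBAB : B * (A * B) = 0 := Matrix.ext_of_mulVec_single fun i => by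
    obtain ⟨c, hc⟩ := P.A_img hφ (P.B_mem ψ (Pi.single i 1))
    rw [← Matrix.mulVec_mulVec, ← Matrix.mulVec_mulVec, hc, hφw, Matrix.mulVec_smul, hBd, smul_zero,
      Matrix.zero_mulVec]
  set X := A * B - B * A with hX
  set Y := A * (B * A) with hY
  have hA' : ∀ z, A * (A * z) = 0 := fun z => by rw [← mul_assoc, hAA, zero_mul]
  have hB' : ∀ z, B * (B * z) = 0 := fun z => by rw [← mul_assoc, hBB, zero_mul]
  have hBAB' : ∀ z, B * (A * (B * z)) = 0 := fun z => by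
    rw [← mul_assoc, ← mul_assoc, mul_assoc B A B, hBAB, zero_mul]
  have hXX : X * X = 0 := by
    simp only [hX, sub_mul, mul_sub, mul_assoc, hAA, hBB, hBAB, hA', hB', hBAB', mul_zero, sub_zero]
  have hXY : X * Y = 0 := by
    simp only [hX, hY, sub_mul, mul_assoc, hA', hB', hBAB', mul_zero, sub_zero]
  have hYX : Y * X = 0 := by
    simp only [hX, hY, mul_sub, mul_assoc, hAA, hBB, hBAB, hA', hB', hBAB', mul_zero, sub_zero]
  have hYY : Y * Y = 0 := by
    simp only [hY, mul_assoc, hA', hB', hBAB', mul_zero]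
  have hsA : In M (1 + s • A) := by
    rw [← smul_mat]; exact hM.in_tv (by simp [hφ])
  have hsB : In M (1 + s • B) := by
    rw [← P.smul_B]; exact P.in_B hM (by simp [hψ])
  have z1 := In.comm (by rw [smul_mul_smul_comm, hAA, smul_zero]) hBB hsA (P.in_B hM hψ)
  rw [comm_of_mid (by rw [smul_mul_smul_comm, hAA, smul_zero]) hBB
    (by rw [Matrix.smul_mul, Matrix.mul_smul, hBAB, smul_zero])] at z1
  have e1 : s • A * B - B * (s • A) - s • A * (B * (s • A)) = s • X - (s * s) • Y := by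
    simp only [hX, hY, Matrix.smul_mul, Matrix.mul_smul, smul_sub, smul_smul]
  rw [e1] at z1
  have z2 := In.comm hAA (by rw [smul_mul_smul_comm, hBB, smul_zero]) (hM.in_tv hφ) hsB
  rw [comm_of_mid hAA (by rw [smul_mul_smul_comm, hBB, smul_zero])
    (by rw [Matrix.smul_mul, Matrix.mul_smul, Matrix.mul_smul, hBAB, smul_zero, smul_zero])] at z2
  have e2 : A * (s • B) - s • B * A - A * (s • B * A) = s • X - s • Y := by
    simp only [hX, hY, Matrix.smul_mul, Matrix.mul_smul, smul_sub]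
  rw [e2] at z2
  have z := z1.mul (z2.inv (Y := 1 - (s • X - s • Y)) (by
    simp only [add_mul, mul_add, sub_mul, mul_sub, one_mul, mul_one, smul_mul_smul_comm, hXX, hXY, hYX, hYY,
      smul_zero]
    abel))
  have e3 : (1 + (s • X - (s * s) • Y)) * (1 - (s • X - s • Y)) = 1 + (s - s * s) • Y := by
    simp only [add_mul, mul_add, sub_mul, mul_sub, one_mul, mul_one, smul_mul_smul_comm, hXX, hXY, hYX, hYY,
      smul_zero, sub_smul]
    abel
  rw [e3] at z
  obtain ⟨φv, hA1⟩ : ∃ x, A *ᵥ x = P.ell := by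
    obtain ⟨c, hc⟩ := mem_line.1 P.hellL
    obtain ⟨c₀, hc₀⟩ := mem_line.1 P.d_mem.1
    have hφ1 : φ P.w ≠ 0 := fun h => P.d_ne (by rw [← hφw, mat_mulVec, h, zero_smul])
    exact ⟨(c / φ P.w) • P.w, by rw [mat_mulVec, map_smul, smul_eq_mul, div_mul_cancel₀ _ hφ1, hc]⟩
  have hne : s - s * s ≠ 0 := by
    rw [show s - s * s = s * (1 - s) by ring]
    exact mul_ne_zero hs0 (sub_ne_zero.2 (Ne.symm hs1))
  refine exists_tv (δ := P.d) (x₀ := φv) P.d_ne (fun x => ?_) ?_ ?_ z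
  · obtain ⟨c, hc⟩ := P.A_img hφ (P.B_mem ψ (A *ᵥ x))
    exact ⟨(s - s * s) * c, by rw [Matrix.smul_mulVec, hY, ← Matrix.mulVec_mulVec, ← Matrix.mulVec_mulVec, hc,
      hφw, smul_smul]⟩
  · rw [Matrix.smul_mulVec, hY, ← Matrix.mulVec_mulVec, ← Matrix.mulVec_mulVec, hA1, hψl, hφw]
    exact smul_ne_zero hne P.d_ne
  · rw [smul_mul_smul_comm, hYY, smul_zero]

include P in
/-- Two scalars, degree at least three. -/
theorem Adapted.exists_tv_of_degree [Fintype F] (hM : HasSemi E M) (h3 : 3 ≤ finrank F E)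
    (hF : ∀ a : F, a = 0 ∨ a = 1) :
    ∃ δ f : Fin n → F, δ ≠ 0 ∧ f ≠ 0 ∧ f ⬝ᵥ δ = 0 ∧ GeomClasses.tv δ f ∈ M := by
  obtain ⟨ε, hε, hεd⟩ : ∃ ε ∈ line E P.d ⊓ img P.g (line E P.v), ε ∉ Submodule.span F {P.d} := by
    by_contra h
    push Not at h
    have h1 := Submodule.finrank_mono (t := Submodule.span F {P.d}) h
    rw [finrank_span_singleton P.d_ne] at h1
    have := P.hdim
    omega
  obtain ⟨φ, hφ, hφw⟩ := P.exists_phi P.d_mem.1
  obtain ⟨ψ, hψ, hψl⟩ := P.exists_psi hε.2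
  set A := P.A φ
  set B := P.B ψ
  have hAA : A * A = 0 := P.AA hφ
  have hBB : B * B = 0 := P.BB hψ
  have hAB : ∀ z, ∃ c : F, A *ᵥ (B *ᵥ z) = c • P.d := fun z => by
    obtain ⟨c, hc⟩ := P.A_img hφ (P.B_mem ψ z)
    exact ⟨c, by rw [hc, hφw]⟩
  have hBA : ∀ z, ∃ c : F, B *ᵥ (A *ᵥ z) = c • ε := fun z => by
    obtain ⟨c, hc⟩ := P.B_line hψ (P.A_mem_line φ z)
    exact ⟨c, by rw [hc, hψl]⟩
  have hBd : B *ᵥ P.d = 0 := P.B_img hψ P.d_mem.2
  have hAε : A *ᵥ ε = 0 := P.A_line hφ hε.1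
  have hBAB : B * (A * B) = 0 := Matrix.ext_of_mulVec_single fun i => by
    obtain ⟨c, hc⟩ := hAB (Pi.single i 1)
    rw [← Matrix.mulVec_mulVec, ← Matrix.mulVec_mulVec, hc, Matrix.mulVec_smul, hBd, smul_zero, Matrix.zero_mulVec]
  have hABA : A * (B * A) = 0 := Matrix.ext_of_mulVec_single fun i => by
    obtain ⟨c, hc⟩ := hBA (Pi.single i 1)
    rw [← Matrix.mulVec_mulVec, ← Matrix.mulVec_mulVec, hc, Matrix.mulVec_smul, hAε, smul_zero, Matrix.zero_mulVec]
  set X := A * B - B * A with hX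
  have hin := In.comm hAA hBB (hM.in_tv hφ) (P.in_B hM hψ)
  rw [comm_of_mid hAA hBB hBAB, hABA, sub_zero] at hin
  have hXval : ∀ z, X *ᵥ z = A *ᵥ (B *ᵥ z) - B *ᵥ (A *ᵥ z) := fun z => by
    rw [hX, Matrix.sub_mulVec, ← Matrix.mulVec_mulVec, ← Matrix.mulVec_mulVec]
  have hXD : ∀ z, X *ᵥ z ∈ line E P.d ⊓ img P.g (line E P.v) := fun z => by
    obtain ⟨a, ha⟩ := hAB z
    obtain ⟨b, hb⟩ := hBA z
    rw [hXval, ha, hb]
    exact Submodule.sub_mem _ (Submodule.smul_mem _ _ P.d_mem) (Submodule.smul_mem _ _ hε)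
  have hXL : ∀ z ∈ line E P.d, X *ᵥ z = 0 := fun z hz => by
    obtain ⟨c, hc⟩ := P.B_line hψ hz
    rw [hXval, P.A_line hφ hz, Matrix.mulVec_zero, sub_zero, hc, hψl, Matrix.mulVec_smul, hAε, smul_zero]
  obtain ⟨w', hw'⟩ : ∃ z, X *ᵥ z ≠ 0 := by
    obtain ⟨c, hc⟩ := mem_line.1 P.hellL
    have hφ1 : φ P.w ≠ 0 := fun h => P.d_ne (by rw [← hφw, mat_mulVec, h, zero_smul])
    refine ⟨(c / φ P.w) • P.w, fun h => ?_⟩
    have hA1 : A *ᵥ ((c / φ P.w) • P.w) = P.ell := by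
      rw [mat_mulVec, map_smul, smul_eq_mul, div_mul_cancel₀ _ hφ1, hc]
    obtain ⟨a, ha⟩ := hAB ((c / φ P.w) • P.w)
    rw [hXval, hA1, hψl, ha, sub_eq_zero] at h
    exact hεd (Submodule.mem_span_singleton.2 ⟨a, h⟩)
  have hw'L : w' ∉ line E P.d := fun h => hw' (hXL _ h)
  -- an element fixing the first line pointwise and moving `w` to `w'`
  obtain ⟨χ, hχd, hχw, hχw'⟩ : ∃ χ : (Fin n → F) →ₗ[E] E, χ P.d = 0 ∧ χ P.w = 1 ∧ χ w' ≠ 0 := by
    obtain ⟨χ₁, a1, b1⟩ := exists_fun_line (not_mem_line P.hwL) (1 : E)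
    obtain ⟨χ₂, a2, b2⟩ := exists_fun_line (not_mem_line hw'L) (1 : E)
    by_cases h1 : χ₁ w' = 0
    · by_cases h2 : χ₂ P.w = 0
      · exact ⟨χ₁ + χ₂, by simp [a1, a2], by simp [b1, h2], by simp [h1, b2]⟩
      · exact ⟨(χ₂ P.w)⁻¹ • χ₂, by simp [a2], by simp [inv_mul_cancel₀ h2], by simp [b2, h2]⟩
    · exact ⟨χ₁, a1, b1, h1⟩
  set T : Matrix (Fin n) (Fin n) F := 1 + mat χ (w' - P.w) with hTdef
  have hTdet : T.det = 1 := by
    have : Module.Finite E (Fin n → F) := Module.Finite.of_restrictScalars_finite F E _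
    have : FiniteDimensional F E := Module.finite_of_finrank_pos (by omega)
    refine (hF T.det).resolve_left ?_
    rw [hTdef, det_one_add_mat, map_sub, hχw, add_sub_cancel]
    exact Algebra.norm_ne_zero_iff.2 hχw'
  obtain ⟨k, hk, hkv⟩ : In M T := hM.in_of_semilinear hTdet id fun c x => by
    simp only [hTdef, Matrix.add_mulVec, Matrix.one_mulVec, mat_mulVec, map_smul, smul_eq_mul, id_eq, smul_add,
      mul_smul]
  have hkz : ∀ z, (k : Matrix (Fin n) (Fin n) F) *ᵥ z = z + χ z • (w' - P.w) := fun z => by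
    rw [hkv, hTdef, Matrix.add_mulVec, Matrix.one_mulVec, mat_mulVec]
  have hkL : ∀ z ∈ line E P.d, (k : Matrix (Fin n) (Fin n) F) *ᵥ z = z := fun z hz => by
    obtain ⟨c, rfl⟩ := mem_line.1 hz
    rw [hkz, map_smul, hχd, smul_zero, zero_smul, add_zero]
  have hkw : (k : Matrix (Fin n) (Fin n) F) *ᵥ P.w = w' := by rw [hkz, hχw, one_smul, add_sub_cancel]
  set B' : Matrix (Fin n) (Fin n) F := (k : Matrix (Fin n) (Fin n) F) * B * ((k⁻¹ : GL (Fin n) F) :
    Matrix (Fin n) (Fin n) F) with hB'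
  have hB'v : ∀ z, B' *ᵥ z = (k : Matrix (Fin n) (Fin n) F) *ᵥ (B *ᵥ (((k⁻¹ : GL (Fin n) F) :
      Matrix (Fin n) (Fin n) F) *ᵥ z)) := fun z => by
    rw [hB', ← Matrix.mulVec_mulVec, ← Matrix.mulVec_mulVec]
  have hB'in : In M (1 + B') := by
    have h0 : In M (k : Matrix (Fin n) (Fin n) F) := ⟨k, hk, rfl⟩
    have h1 : In M ((k⁻¹ : GL (Fin n) F) : Matrix (Fin n) (Fin n) F) := ⟨k⁻¹, M.inv_mem hk, rfl⟩
    have h := (h0.mul (P.in_B hM hψ)).mul h1
    rwa [Matrix.mul_add, mul_one, Matrix.add_mul, ← Units.val_mul, mul_inv_cancel, Units.val_one] at h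
  have hB'B' : B' * B' = 0 := Matrix.ext_of_mulVec_single fun i => by
    rw [← Matrix.mulVec_mulVec, hB'v, hB'v, GeomClasses.gl_inv_mulVec_mulVec,
      Matrix.mulVec_mulVec (_ : Fin n → F) B B, hBB, Matrix.zero_mulVec, Matrix.mulVec_zero, Matrix.zero_mulVec]
  have hB'D : ∀ z ∈ line E P.d ⊓ img P.g (line E P.v), B' *ᵥ z = 0 := fun z hz => by
    have : ((k⁻¹ : GL (Fin n) F) : Matrix (Fin n) (Fin n) F) *ᵥ z = z := by
      conv_lhs => rw [← hkL z hz.1]
      rw [GeomClasses.gl_inv_mulVec_mulVec]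
    rw [hB'v, this, P.B_img hψ hz.2, Matrix.mulVec_zero]
  have hB'X : B' * X = 0 := Matrix.ext_of_mulVec_single fun i => by
    rw [← Matrix.mulVec_mulVec, hB'D _ (hXD _), Matrix.zero_mulVec]
  have hXX : X * X = 0 := Matrix.ext_of_mulVec_single fun i => by
    rw [← Matrix.mulVec_mulVec, hXL _ (hXD _).1, Matrix.zero_mulVec]
  have hXB'2 : ∀ z, ∃ c : F, X *ᵥ (B' *ᵥ z) = c • (X *ᵥ w') := fun z => by
    obtain ⟨y, hy, c, hc⟩ := P.split' (P.B_mem ψ (((k⁻¹ : GL (Fin n) F) : Matrix (Fin n) (Fin n) F) *ᵥ z))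
    exact ⟨c, by rw [hB'v, hc, Matrix.mulVec_add, hkL y hy.1, Matrix.mulVec_add, hXL y hy.1, zero_add,
      Matrix.mulVec_smul, hkw, Matrix.mulVec_smul]⟩
  have z1 := In.comm hB'B' hXX hB'in hin
  have e : (1 + B') * (1 + X) * (1 - B') * (1 - X) = 1 - X * B' := by
    have h1 : ∀ z, B' * (X * z) = 0 := fun z => by rw [← mul_assoc, hB'X, zero_mul]
    have h2 : ∀ z, B' * (B' * z) = 0 := fun z => by rw [← mul_assoc, hB'B', zero_mul]
    have h3 : ∀ z, X * (X * z) = 0 := fun z => by rw [← mul_assoc, hXX, zero_mul]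
    simp only [add_mul, mul_add, sub_mul, mul_sub, one_mul, mul_one, mul_assoc, hB'X, hXX, hB'B', h1, h2, h3,
      mul_zero, zero_mul, add_zero, zero_add, sub_zero]
    abel
  rw [e, sub_eq_add_neg] at z1
  obtain ⟨z₀, hz₀⟩ : ∃ z, B *ᵥ z = P.w := by
    obtain ⟨c, hc⟩ := mem_line.1 (mem_img.1 P.hwL')
    obtain ⟨u, h1, h2⟩ := exists_fun_line (not_mem_line P.inv_ell_notMem) (1 : E)
    have hψ1 : ψ (((P.g⁻¹ : GL (Fin n) F) : Matrix (Fin n) (Fin n) F) *ᵥ P.ell) ≠ 0 := fun h => hεd (by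
      rw [← hψl, P.B_mulVec, h, zero_smul, Matrix.mulVec_zero]
      exact Submodule.zero_mem _)
    refine ⟨(P.g : Matrix (Fin n) (Fin n) F) *ᵥ ((c / ψ (((P.g⁻¹ : GL (Fin n) F) : Matrix (Fin n) (Fin n) F) *ᵥ
      P.ell)) • (((P.g⁻¹ : GL (Fin n) F) : Matrix (Fin n) (Fin n) F) *ᵥ P.ell)), ?_⟩
    rw [P.B_mulVec, GeomClasses.gl_inv_mulVec_mulVec, map_smul, smul_eq_mul, div_mul_cancel₀ _ hψ1, hc,
      GeomClasses.gl_mulVec_inv_mulVec]
  refine exists_tv (δ := X *ᵥ w') (x₀ := (k : Matrix (Fin n) (Fin n) F) *ᵥ z₀) hw' (fun z => ?_) ?_ ?_ z1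
  · obtain ⟨c, hc⟩ := hXB'2 z
    exact ⟨-c, by rw [Matrix.neg_mulVec, ← Matrix.mulVec_mulVec, hc, neg_smul]⟩
  · rw [Matrix.neg_mulVec, ← Matrix.mulVec_mulVec, hB'v, GeomClasses.gl_inv_mulVec_mulVec, hz₀, hkw]
    exact neg_ne_zero.2 hw'
  · rw [neg_mul_neg, mul_assoc, ← mul_assoc B', hB'X, zero_mul, mul_zero]

end CfsgLib.ExtFieldMax
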