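import Mathlib
import Cfsg.Agent.Lib.ExtFieldMax.Transvection

/-!
The plane over the field of four elements inside dimension four over two elements: explicit words giving a
transvection.
-/

set_option autoImplicit false
set_option linter.unusedSectionVars false
set_option linter.unusedSimpArgs false

namespace CfsgLib.ExtFieldMax

open Matrix Module
open scoped MatrixGroups

variable {F : Type*} [Field F] {n : ℕ}
variable {E : Type*} [Field E] [Algebra F E] [Module E (Fin n → F)] [IsScalarTower F E (Fin n → F)]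
variable {M : Subgroup (GL (Fin n) F)} (P : Adapted E M)

include P in
/-- Two scalars, degree two, a plane. -/
theorem Adapted.exists_tv_four [Fintype F] (hM : HasSemi E M) (h2 : finrank F E = 2)
    (hspan : Submodule.span E ({P.d, P.w} : Set (Fin n → F)) = ⊤) (hF : ∀ a : F, a = 0 ∨ a = 1) :
    ∃ δ f : Fin n → F, δ ≠ 0 ∧ f ≠ 0 ∧ f ⬝ᵥ δ = 0 ∧ GeomClasses.tv δ f ∈ M := by
  classical
  have : FiniteDimensional F E := Module.finite_of_finrank_pos (by omega)
  have : Module.Finite E (Fin n → F) := Module.Finite.of_restrictScalars_finite F E _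
  have : Finite E := Module.finite_of_finite F
  have : Fintype E := Fintype.ofFinite E
  have h11 : (1 : F) + 1 = 0 := (hF (1 + 1)).resolve_right fun h => one_ne_zero (add_eq_left.1 h)
  have hE2 : (1 : E) + 1 = 0 := by rw [← map_one (algebraMap F E), ← map_add, h11, map_zero]
  have hcard : Fintype.card E = 4 := by
    have h1 : Fintype.card F = 2 := by
      rw [← Finset.card_univ, show (Finset.univ : Finset F) = {0, 1} from Finset.ext fun a => by simpa using hF a,
        Finset.card_pair zero_ne_one]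
    rw [Module.card_eq_pow_finrank (K := F), h1, h2]; norm_num
  have hdS : P.d ∈ img P.g (line E P.v) := P.d_mem.2
  -- the generator of the field
  obtain ⟨ω, hω⟩ := mem_line.1 P.hellL
  have hω0 : ω ≠ 0 := fun h => P.hellL' (by rw [← hω, h, zero_smul]; exact Submodule.zero_mem _)
  have hω1 : ω ≠ 1 := fun h => P.hellL' (by rw [← hω, h, one_smul]; exact hdS)
  have hω2 : ω * ω = ω + 1 := by
    have h := FiniteField.pow_card_sub_one_eq_one ω hω0
    rw [hcard] at h
    have : (ω - 1) * (ω * ω + ω + 1) = 0 := by linear_combination h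
    have := (mul_eq_zero.1 this).resolve_left (sub_ne_zero.2 hω1)
    linear_combination this - (ω + 1) * hE2
  -- coordinates
  obtain ⟨χ, hχw, hχd⟩ := exists_fun_line (a := P.w) (b := P.d) (fun c hc => by
    have hc0 : c ≠ 0 := fun h => P.d_ne (by rw [hc, h, zero_smul])
    exact P.hwL (mem_line.2 ⟨c⁻¹, by rw [hc, smul_smul, inv_mul_cancel₀ hc0, one_smul]⟩)) (1 : E)
  obtain ⟨φ, hφd, hφw⟩ := exists_fun_line (not_mem_line P.hwL) (1 : E)
  have hdec : ∀ x, x = χ x • P.d + φ x • P.w := fun x => by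
    obtain ⟨a, b, rfl⟩ := Submodule.mem_span_pair.1 (show x ∈ Submodule.span E ({P.d, P.w} : Set (Fin n → F)) by
      rw [hspan]; trivial)
    simp [hχw, hχd, hφd, hφw]
  have hEF : ∀ a : E, ∃ a₀ a₁ : F, a = algebraMap F E a₀ + algebraMap F E a₁ * ω := by
    have hinj : Function.Injective
        (fun p : F × F => algebraMap F E p.1 + algebraMap F E p.2 * ω) := by
      rintro ⟨a, b⟩ ⟨a', b'⟩ h
      simp only at h
      by_cases hb : b = b'
      · subst hb
        simpa using (FaithfulSMul.algebraMap_injective F E) (add_right_cancel h)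
      · exfalso
        have hne : algebraMap F E (b - b') ≠ 0 := by simpa [sub_eq_zero] using hb
        have : ω = algebraMap F E ((a' - a) / (b - b')) := by
          rw [map_div₀, eq_div_iff hne, map_sub, map_sub]
          linear_combination h
        rcases hF ((a' - a) / (b - b')) with e | e <;> rw [e] at this
        · exact hω0 (by rw [this, map_zero])
        · exact hω1 (by rw [this, map_one])
    have hcard2 : Fintype.card (F × F) = Fintype.card E := by
      rw [Fintype.card_prod, ← Finset.card_univ, show (Finset.univ : Finset F) = {0, 1} from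
        Finset.ext fun a => by simpa using hF a, Finset.card_pair zero_ne_one, hcard]
    intro a
    obtain ⟨⟨a₀, a₁⟩, h⟩ := ((Fintype.bijective_iff_injective_and_card _).2 ⟨hinj, hcard2⟩).surjective a
    exact ⟨a₀, a₁, h.symm⟩
  set pt : F → F → F → F → (Fin n → F) := fun a₀ b₀ a₁ b₁ =>
    (algebraMap F E a₀ + algebraMap F E a₁ * ω) • P.d + (algebraMap F E b₀ + algebraMap F E b₁ * ω) • P.w with hpt
  have hpt_surj : ∀ x, ∃ a₀ b₀ a₁ b₁, x = pt a₀ b₀ a₁ b₁ := fun x => by
    obtain ⟨a₀, a₁, ha⟩ := hEF (χ x)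
    obtain ⟨b₀, b₁, hb⟩ := hEF (φ x)
    exact ⟨a₀, b₀, a₁, b₁, by rw [hpt]; simp only; rw [← ha, ← hb]; exact hdec x⟩
  have hpt_add : ∀ a₀ b₀ a₁ b₁ c₀ d₀ c₁ d₁,
      pt a₀ b₀ a₁ b₁ + pt c₀ d₀ c₁ d₁ = pt (a₀ + c₀) (b₀ + d₀) (a₁ + c₁) (b₁ + d₁) := fun a₀ b₀ a₁ b₁ c₀ d₀ c₁ d₁ => by
    simp only [hpt, map_add, add_mul, add_smul]; abel
  have hpt0 : ∀ a₀ b₀ a₁ b₁, pt a₀ b₀ a₁ b₁ = a₀ • P.d + b₀ • P.w + a₁ • P.ell + b₁ • (ω • P.w) :=
    fun a₀ b₀ a₁ b₁ => by
      simp only [hpt, add_smul, mul_smul, algebraMap_smul, hω]; abel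
  -- the semilinear map squaring coordinates
  let Sl : (Fin n → F) →ₗ[F] (Fin n → F) :=
    { toFun := fun x => (χ x * χ x) • P.d + (φ x * φ x) • P.w
      map_add' := fun x y => by
        have e : ∀ a b : E, (a + b) * (a + b) = a * a + b * b := fun a b => by
          linear_combination (a * b) * hE2
        simp only [map_add, e, add_smul]; abel
      map_smul' := fun c x => by
        rcases hF c with rfl | rfl <;> simp }
  set σ : Matrix (Fin n) (Fin n) F := LinearMap.toMatrix' Sl with hσdef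
  have hσ : ∀ x, σ *ᵥ x = (χ x * χ x) • P.d + (φ x * φ x) • P.w := fun x => LinearMap.toMatrix'_mulVec _ _
  have hχval : ∀ a b : E, χ (a • P.d + b • P.w) = a := fun a b => by simp [hχd, hχw]
  have hφval : ∀ a b : E, φ (a • P.d + b • P.w) = b := fun a b => by simp [hφd, hφw]
  have hdetne : ∀ X : Matrix (Fin n) (Fin n) F, (∀ x, X *ᵥ x = 0 → x = 0) → X.det = 1 := fun X hX =>
    (hF X.det).resolve_left fun h0 => by
      obtain ⟨z, hz0, hz⟩ := Matrix.exists_mulVec_eq_zero_iff.2 h0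
      exact hz0 (hX z hz)
  have hσin : In M σ := hM.in_of_semilinear (hdetne σ fun x hx => by
      rw [hσ] at hx
      have h1 := congrArg χ hx
      have h2 := congrArg φ hx
      rw [hχval, map_zero, mul_self_eq_zero] at h1
      rw [hφval, map_zero, mul_self_eq_zero] at h2
      rw [hdec x, h1, h2, zero_smul, zero_smul, add_zero]) (fun c => c * c) fun c x => by
    rw [hσ, hσ, map_smul, map_smul, smul_add, smul_smul, smul_smul]
    congr 2 <;> simp only [smul_eq_mul] <;> ring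
  have hw : ∀ a₀ b₀ a₁ b₁, σ *ᵥ pt a₀ b₀ a₁ b₁ = pt (a₀ + a₁) (b₀ + b₁) a₁ b₁ := fun a₀ b₀ a₁ b₁ => by
    rw [hσ, hpt]; simp only
    rw [hχval, hφval]
    congr 2 <;>
      rcases hF a₀ with rfl | rfl <;> rcases hF a₁ with rfl | rfl <;> rcases hF b₀ with rfl | rfl <;>
        rcases hF b₁ with rfl | rfl <;> simp [h11, hE2, hω2, add_comm] <;>
          linear_combination (ω + 1) * hE2 + hω2
  -- the translations with centre the second line
  obtain ⟨cw, hcw⟩ := mem_line.1 (mem_img.1 P.hwL')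
  set S := img P.g (line E P.v) with hS
  have hline2 : ∀ x ∈ S, ∃ a b : F, x = a • P.d + b • P.w := fun x hx => by
    obtain ⟨y, hy, c, rfl⟩ := P.split' hx
    have hD : line E P.d ⊓ S = Submodule.span F {P.d} := by
      refine (Submodule.eq_of_le_of_finrank_eq ((Submodule.span_singleton_le_iff_mem _ _).2 P.d_mem) ?_).symm
      have := P.hdim
      rw [finrank_span_singleton P.d_ne, ← hS] at *
      omega
    rw [hD] at hy
    obtain ⟨a, rfl⟩ := Submodule.mem_span_singleton.1 hy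
    exact ⟨a, c, rfl⟩
  have hBshape : ∀ ε ∈ S, ε ≠ 0 → ∃ B : Matrix (Fin n) (Fin n) F, In M (1 + B) ∧ ∃ a b : F,
      (a • P.d + b • P.w ≠ 0 ∧ a • P.d + b • P.w ≠ ε) ∧
      ∀ a₀ b₀ a₁ b₁, B *ᵥ pt a₀ b₀ a₁ b₁ = a₁ • ε + b₁ • (a • P.d + b • P.w) := by
    intro ε hε hε0
    obtain ⟨ψ, hψ, hψl⟩ := P.exists_psi hε
    obtain ⟨a, b, hab⟩ := hline2 _ (P.B_mem ψ (ω • P.w))
    have hker : ∀ x, P.B ψ *ᵥ x = 0 → x ∈ S := by
      intro x hx
      have h1 : ψ (((P.g⁻¹ : GL (Fin n) F) : Matrix (Fin n) (Fin n) F) *ᵥ x) = 0 := by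
        rw [P.B_mulVec] at hx
        have := GeomClasses.gl_mulVec_injective P.g (hx.trans (Matrix.mulVec_zero _).symm)
        exact (smul_eq_zero.1 this).resolve_right P.hv
      refine mem_img.2 ?_
      by_contra hno
      set u := ((P.g⁻¹ : GL (Fin n) F) : Matrix (Fin n) (Fin n) F) *ᵥ x with hu
      have hind : LinearIndependent E ![P.v, u] := LinearIndependent.pair_iff' P.hv |>.2
        fun c hc => hno (mem_line.2 ⟨c, hc⟩)
      have hrank : finrank E (Fin n → F) ≤ 2 := by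
        rw [← finrank_top E (Fin n → F), ← hspan]
        exact (finrank_span_le_card _).trans (by
          rw [Set.toFinset_insert, Set.toFinset_singleton]; exact (Finset.card_insert_le _ _).trans (by simp))
      have htop := hind.span_eq_top_of_card_eq_finrank (by
        have := hind.fintype_card_le_finrank
        simp only [Fintype.card_fin] at this ⊢
        omega)
      have hψ0 : ψ = 0 := by
        refine LinearMap.ext_on htop ?_
        rintro _ ⟨i, rfl⟩
        fin_cases i <;> simp [hψ, h1]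
      apply hε0
      rw [← hψl, P.B_mulVec, hψ0]
      simp
    refine ⟨P.B ψ, P.in_B hM hψ, a, b, ⟨?_, ?_⟩, fun a₀ b₀ a₁ b₁ => ?_⟩
    · rw [← hab]; intro h
      have hωw := hker _ h
      obtain ⟨x, y, hxy⟩ := hline2 _ hωw
      have := congrArg φ hxy
      rw [map_smul, map_add, LinearMap.map_smul_of_tower, LinearMap.map_smul_of_tower, hφd, hφw] at this
      simp at this
      rcases hF y with rfl | rfl
      · exact hω0 (by simpa using this)
      · exact hω1 (by simpa using this)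
    · rw [← hab, ← hψl]; intro h
      have hωw : ω • P.w - P.ell ∈ S := hker _ (by rw [Matrix.mulVec_sub, h, sub_self])
      obtain ⟨x, y, hxy⟩ := hline2 _ hωw
      have := congrArg φ hxy
      rw [map_sub, map_smul, map_add, LinearMap.map_smul_of_tower, LinearMap.map_smul_of_tower, hφd, hφw,
        ← hω, map_smul, hφd] at this
      simp at this
      rcases hF y with rfl | rfl
      · exact hω0 (by simpa using this)
      · exact hω1 (by simpa using this)
    · rw [hpt0, Matrix.mulVec_add, Matrix.mulVec_add, Matrix.mulVec_add, Matrix.mulVec_smul, Matrix.mulVec_smul,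
        Matrix.mulVec_smul, Matrix.mulVec_smul, P.B_img hψ hdS, P.B_img hψ P.hwL', hψl, hab]
      simp
  have hself : ∀ x : Fin n → F, x + x = 0 := fun x => by rw [← two_smul F x, ← one_add_one_eq_two, h11, zero_smul]
  have hneg : ∀ A : Matrix (Fin n) (Fin n) F, A + A = 0 := fun A => by
    rw [← two_smul F A, ← one_add_one_eq_two, h11, zero_smul]
  have finish : ∀ (T : Matrix (Fin n) (Fin n) F) (δ x₀ : Fin n → F), In M T → δ ≠ 0 → T *ᵥ δ = δ →
      T *ᵥ x₀ ≠ x₀ → (∀ x, ∃ c : F, T *ᵥ x = x + c • δ) →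
      ∃ δ f : Fin n → F, δ ≠ 0 ∧ f ≠ 0 ∧ f ⬝ᵥ δ = 0 ∧ GeomClasses.tv δ f ∈ M := by
    intro T δ x₀ hT hδ hTδ hx₀ hall
    refine exists_tv (X := T - 1) (x₀ := x₀) hδ (fun x => ?_) ?_ ?_ (by rwa [add_sub_cancel])
    · obtain ⟨c, hc⟩ := hall x
      exact ⟨c, by rw [Matrix.sub_mulVec, Matrix.one_mulVec, hc, add_sub_cancel_left]⟩
    · rwa [Matrix.sub_mulVec, Matrix.one_mulVec, sub_ne_zero]
    · refine Matrix.ext_of_mulVec_single fun i => ?_
      obtain ⟨c, hc⟩ := hall (Pi.single i 1)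
      have e : (T - 1) *ᵥ Pi.single i 1 = c • δ := by
        rw [Matrix.sub_mulVec, Matrix.one_mulVec, hc, add_sub_cancel_left]
      rw [← Matrix.mulVec_mulVec, Matrix.zero_mulVec, e, Matrix.mulVec_smul, Matrix.sub_mulVec, hTδ,
        Matrix.one_mulVec, sub_self, smul_zero]
  have hσB : ∀ (B : Matrix (Fin n) (Fin n) F) (ε η : Fin n → F), In M (1 + B) →
      (∀ a₀ b₀ a₁ b₁, B *ᵥ pt a₀ b₀ a₁ b₁ = a₁ • ε + b₁ • η) →
      ∀ a₀ b₀ a₁ b₁, ((1 + B) * σ) *ᵥ pt a₀ b₀ a₁ b₁ =
        pt a₀ b₀ a₁ b₁ + (a₁ • (P.d + ε) + b₁ • (P.w + η)) := by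
    intro B ε η _ hB a₀ b₀ a₁ b₁
    rw [← Matrix.mulVec_mulVec, hw, Matrix.add_mulVec, Matrix.one_mulVec, hB, hpt0, hpt0]
    simp only [add_smul, smul_add]; abel
  have hptd : P.d = pt 1 0 0 0 := by rw [hpt0]; simp
  have hptw : P.w = pt 0 1 0 0 := by rw [hpt0]; simp
  obtain ⟨B₁, hB₁, a, b, ⟨hab0, habd⟩, hB₁v⟩ := hBshape P.d hdS P.d_ne
  rcases hF b with rfl | rfl
  · exfalso
    rcases hF a with rfl | rfl
    · exact hab0 (by simp)
    · exact habd (by simp)
  rcases hF a with rfl | rfl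
  swap
  · refine finish ((1 + B₁) * σ) P.d (pt 0 0 0 1) (hB₁.mul hσin) P.d_ne ?_ ?_ fun x => ?_
    · rw [hptd, hσB B₁ _ _ hB₁ hB₁v]; simp
    · rw [hσB B₁ _ _ hB₁ hB₁v]
      simp only [zero_smul, zero_add, one_smul, smul_add]
      rw [Ne, add_eq_left, add_left_comm, hself, add_zero]
      exact P.d_ne
    · obtain ⟨a₀, b₀, a₁, b₁, rfl⟩ := hpt_surj x
      refine ⟨b₁, ?_⟩
      rw [hσB B₁ _ _ hB₁ hB₁v, hself, smul_zero, zero_add]
      simp only [one_smul, smul_add]
      rw [add_left_comm (b₁ • P.w), hself, add_zero]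
  obtain ⟨B, hB, a, b, ⟨hab0', habw⟩, hBv⟩ := hBshape P.w P.hwL' P.w_ne
  rcases hF a with rfl | rfl
  · exfalso
    rcases hF b with rfl | rfl
    · exact hab0' (by simp)
    · exact habw (by simp)
  rcases hF b with rfl | rfl
  · refine finish ((1 + B) * σ) (P.d + P.w) (pt 0 0 0 1) (hB.mul hσin) ?_ ?_ ?_ fun x => ?_
    · intro h
      have := congrArg φ h
      simp [hφd, hφw] at this
    · rw [hptd, hptw, hpt_add, hσB B _ _ hB hBv]; simp
    · rw [hσB B _ _ hB hBv]
      simp only [zero_smul, zero_add, one_smul, add_zero]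
      rw [Ne, add_eq_left, add_comm]
      intro h
      have := congrArg φ h
      simp [hφd, hφw] at this
    · obtain ⟨a₀, b₀, a₁, b₁, rfl⟩ := hpt_surj x
      refine ⟨a₁ + b₁, ?_⟩
      rw [hσB B _ _ hB hBv]
      simp only [one_smul, zero_smul, add_zero, smul_add, add_smul]
      abel
  -- the remaining shape: an explicit word
  have hscal : ∀ c : E, c ≠ 0 → ∃ X, In M X ∧ ∀ x, X *ᵥ x = c • x := fun c hc => by
    refine ⟨LinearMap.toMatrix' ((c • LinearMap.id : (Fin n → F) →ₗ[E] (Fin n → F)).restrictScalars F), ?_,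
      fun x => LinearMap.toMatrix'_mulVec _ _⟩
    refine hM.in_of_semilinear (hdetne _ fun x hx => ?_) id fun d x => ?_
    · rw [LinearMap.toMatrix'_mulVec] at hx
      exact (smul_eq_zero.1 (show c • x = 0 from hx)).resolve_left hc
    · rw [LinearMap.toMatrix'_mulVec, LinearMap.toMatrix'_mulVec]
      exact smul_comm c d x
  obtain ⟨W, hW, hWv⟩ := hscal ω hω0
  have hWp : ∀ a₀ b₀ a₁ b₁, W *ᵥ pt a₀ b₀ a₁ b₁ = pt a₁ b₁ (a₀ + a₁) (b₀ + b₁) := fun a₀ b₀ a₁ b₁ => by
    rw [hWv, hpt]; simp only [smul_add, smul_smul, map_add]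
    congr 2
    · linear_combination (algebraMap F E a₁) * hω2
    · linear_combination (algebraMap F E b₁) * hω2
  let Sw : (Fin n → F) →ₗ[E] (Fin n → F) := φ.smulRight P.d + χ.smulRight P.w
  have hSw : ∀ x, LinearMap.toMatrix' (Sw.restrictScalars F) *ᵥ x = φ x • P.d + χ x • P.w := fun x => by
    rw [LinearMap.toMatrix'_mulVec]; rfl
  have hSin : In M (LinearMap.toMatrix' (Sw.restrictScalars F)) := hM.in_of_semilinear (hdetne _ fun x hx => by
      rw [hSw] at hx
      have h1 := congrArg χ hx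
      have h2 := congrArg φ hx
      rw [hχval, map_zero] at h1
      rw [hφval, map_zero] at h2
      rw [hdec x, h1, h2, zero_smul, zero_smul, add_zero]) id fun c x => by
    rw [LinearMap.toMatrix'_mulVec, LinearMap.toMatrix'_mulVec]; exact Sw.map_smul c x
  have hSp : ∀ a₀ b₀ a₁ b₁, LinearMap.toMatrix' (Sw.restrictScalars F) *ᵥ pt a₀ b₀ a₁ b₁ = pt b₀ a₀ b₁ a₁ :=
    fun a₀ b₀ a₁ b₁ => by rw [hSw, hpt]; simp only; rw [hχval, hφval]
  have hDin : In M (1 + mat φ ((ω - 1) • P.w)) := hM.in_mat (by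
    refine (hF _).resolve_left (Algebra.norm_ne_zero_iff.2 ?_)
    simp [hφw, hω0])
  have hDp : ∀ a₀ b₀ a₁ b₁, (1 + mat φ ((ω - 1) • P.w)) *ᵥ pt a₀ b₀ a₁ b₁ = pt a₀ b₁ a₁ (b₀ + b₁) :=
    fun a₀ b₀ a₁ b₁ => by
    rw [Matrix.add_mulVec, Matrix.one_mulVec, mat_mulVec, hpt]; simp only
    rw [hφval, smul_smul, add_assoc, ← add_smul, map_add]
    congr 2
    linear_combination (algebraMap F E b₁) * hω2
  have hBp : ∀ a₀ b₀ a₁ b₁, (1 + B) *ᵥ pt a₀ b₀ a₁ b₁ = pt (a₀ + b₁) (b₀ + a₁ + b₁) a₁ b₁ :=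
    fun a₀ b₀ a₁ b₁ => by
    rw [Matrix.add_mulVec, Matrix.one_mulVec, hBv, hpt0, hpt0]
    simp only [one_smul, add_smul, smul_add]; abel
  set T := W * (LinearMap.toMatrix' (Sw.restrictScalars F)) * (1 + B) * W * (1 + mat φ ((ω - 1) • P.w)) * (1 + B)
    with hT
  have hTin : In M T := ((((hW.mul hSin).mul hB).mul hW).mul hDin).mul hB
  have hTv : ∀ a₀ b₀ a₁ b₁, T *ᵥ pt a₀ b₀ a₁ b₁ =
      pt a₀ b₀ a₁ b₁ + (a₀ + b₀ + a₁ + b₁) • pt 1 1 1 1 := by
    intro a₀ b₀ a₁ b₁
    simp only [hT, ← Matrix.mulVec_mulVec, hBp, hDp, hWp, hSp]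
    rcases hF a₀ with rfl | rfl <;> rcases hF a₁ with rfl | rfl <;> rcases hF b₀ with rfl | rfl <;>
      rcases hF b₁ with rfl | rfl <;> simp [h11, hpt_add]
  refine finish T (pt 1 1 1 1) (pt 1 0 0 0) hTin ?_ ?_ ?_ fun x => ?_
  · intro h
    have h' := congrArg φ h
    rw [hpt] at h'
    simp only at h'
    rw [hφval, map_zero, map_one, one_mul] at h'
    exact hω1 (by linear_combination h' - hE2)
  · rw [hTv]; simp [h11]
  · rw [hTv, Ne, add_eq_left]
    simp only [add_zero, one_smul]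
    intro h
    have h' := congrArg φ h
    rw [hpt] at h'
    simp only at h'
    rw [hφval, map_zero, map_one, one_mul] at h'
    exact hω1 (by linear_combination h' - hE2)
  · obtain ⟨a₀, b₀, a₁, b₁, rfl⟩ := hpt_surj x
    exact ⟨_, hTv a₀ b₀ a₁ b₁⟩

end CfsgLib.ExtFieldMax
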