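import Mathlib
import Cfsg.Agent.Lib.ExtFieldMax.Four

/-!
A group with the semilinear elements of determinant one and one transvection contains the special linear group.
-/

set_option autoImplicit false
set_option linter.unusedSectionVars false
set_option linter.unusedSimpArgs false

namespace CfsgLib.ExtFieldMax

open Matrix Module GeomClasses
open scoped MatrixGroups

variable {F : Type*} [Field F] {n : ℕ}
variable {E : Type*} [Field E] [Algebra F E] [Module E (Fin n → F)] [IsScalarTower F E (Fin n → F)]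

variable (E) in
/-- The axes, vanishing on the line through `a`, of the transvections with centre `a` in the group. -/
def axes (M : Subgroup (GL (Fin n) F)) (a : Fin n → F) : AddSubgroup (Fin n → F) where
  carrier := {h | (∀ x ∈ line E a, h ⬝ᵥ x = 0) ∧ tv a h ∈ M}
  zero_mem' := ⟨fun x _ => zero_dotProduct x, by
    have : tv a (0 : Fin n → F) = 1 := gl_ext fun x => by rw [tv_mulVec (zero_dotProduct a)]; simp
    rw [this]; exact M.one_mem⟩
  add_mem' := fun {h k} hh hk => ⟨fun x hx => by rw [add_dotProduct, hh.1 x hx, hk.1 x hx, add_zero], by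
    rw [← tv_mul_tv_right (hh.1 a (self_mem_line a)) (hk.1 a (self_mem_line a))]
    exact M.mul_mem hh.2 hk.2⟩
  neg_mem' := fun {h} hh => ⟨fun x hx => by rw [neg_dotProduct, hh.1 x hx, neg_zero], by
    have h0 := hh.1 a (self_mem_line a)
    rw [← neg_one_smul F h, ← tv_smul_comm h0, neg_one_smul, ← tv_inv h0]
    exact M.inv_mem hh.2⟩

theorem vecMul_mat_dot (f : Fin n → F) (ψ : (Fin n → F) →ₗ[E] E) (y x : Fin n → F) :
    (f ᵥ* mat ψ y) ⬝ᵥ x = f ⬝ᵥ (ψ x • y) := by
  rw [← dotProduct_mulVec, mat_mulVec]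

theorem norm_kernel_card [Fintype F] [Fintype E] :
    Nat.card (Units.map (Algebra.norm F : E →* F)).ker * (Nat.card F - 1) = Nat.card E - 1 := by
  have h := Subgroup.card_mul_index (Units.map (Algebra.norm F : E →* F)).ker
  have hsurj : Function.Surjective (Units.map (Algebra.norm F : E →* F)) :=
    FiniteField.unitsMap_norm_surjective F E
  rw [Subgroup.index_ker, MonoidHom.range_eq_top.2 hsurj, Subgroup.card_top, Nat.card_units,
    Nat.card_units] at h
  exact h

theorem subring_eq_top [Fintype F] [Fintype E] (hr : 2 ≤ finrank F E) (C : Subfield E)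
    (hC : ∀ b : E, Algebra.norm F b = 1 → b ∈ C) : C = ⊤ := by
  classical
  have hj : Nat.card E = Nat.card C ^ finrank C E := Module.natCard_eq_pow_finrank
  have hq : Nat.card E = Nat.card F ^ finrank F E := Module.natCard_eq_pow_finrank
  have hU : Nat.card (Units.map (Algebra.norm F : E →* F)).ker < Nat.card C := by
    let φ : Option (Units.map (Algebra.norm F : E →* F)).ker → C := fun o =>
      o.elim 0 (fun b => ⟨((b : Eˣ) : E), hC _ (by
        have := MonoidHom.mem_ker.1 b.2
        exact congrArg Units.val this)⟩)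
    have hφ : Function.Injective φ := by
      rintro (_ | a) (_ | b) h
      · rfl
      · exact absurd (congrArg Subtype.val h).symm (Units.ne_zero _)
      · exact absurd (congrArg Subtype.val h) (Units.ne_zero _)
      · exact congrArg some (Subtype.ext (Units.ext (congrArg Subtype.val h)))
    have := Nat.card_le_card_of_injective φ hφ
    rw [Finite.card_option] at this
    omega
  by_contra hne
  have hj2 : 2 ≤ finrank C E := by
    have h0 : 0 < finrank C E := Module.finrank_pos
    rcases (show finrank C E = 1 ∨ 2 ≤ finrank C E by omega) with h | h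
    · exfalso
      refine hne (eq_top_iff.2 fun x _ => ?_)
      rw [h, pow_one] at hj
      have hset : (C : Set E) = Set.univ := Set.eq_of_subset_of_ncard_le (Set.subset_univ _) (by
        rw [Set.ncard_univ, hj]; exact le_of_eq (Nat.card_coe_set_eq (C : Set E)))
      exact (Set.ext_iff.1 hset x).2 trivial
    · exact h
  have hker := norm_kernel_card (F := F) (E := E)
  obtain ⟨k, hk⟩ := Nat.exists_eq_add_of_le hr
  set q := Nat.card F
  set U := Nat.card (Units.map (Algebra.norm F : E →* F)).ker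
  have hq2 : 2 ≤ q := Finite.one_lt_card
  have hlow : q ^ (k + 1) ≤ U := by
    by_contra hlt
    push Not at hlt
    have h1 : (U + 1) * (q - 1) ≤ q ^ (k + 1) * (q - 1) := Nat.mul_le_mul_right _ hlt
    have h2 : q ^ (k + 1) * (q - 1) + q ^ (k + 1) = q ^ (finrank F E) := by
      rw [← Nat.mul_succ, show (q - 1).succ = q by omega, hk, ← pow_succ]
      ring_nf
    have h3 : 0 < q ^ (k + 1) := pow_pos (by omega) _
    have h4 : q ^ 1 ≤ q ^ (k + 1) := Nat.pow_le_pow_right (by omega) (by omega)
    rw [hq] at hker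
    rw [Nat.add_mul, one_mul] at h1
    rw [pow_one] at h4
    omega
  have h5 : Nat.card C ^ 2 ≤ Nat.card E := by
    rw [hj]; exact Nat.pow_le_pow_right Nat.card_pos hj2
  have h6 : (q ^ (k + 1) + 1) ^ 2 ≤ Nat.card C ^ 2 := Nat.pow_le_pow_left (by omega) 2
  have h7 : q ^ finrank F E ≤ (q ^ (k + 1)) ^ 2 := by
    rw [← pow_mul]; exact Nat.pow_le_pow_right (by omega) (by omega)
  have h8 : (q ^ (k + 1)) ^ 2 < (q ^ (k + 1) + 1) ^ 2 := Nat.pow_lt_pow_left (by omega) (by norm_num)
  omega

theorem axes_mul [Fintype F] (hr : 2 ≤ finrank F E) {M : Subgroup (GL (Fin n) F)} (hM : HasSemi E M)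
    {a : Fin n → F} {ψ : (Fin n → F) →ₗ[E] E} (hψ : ψ a = 0) (y : Fin n → F) {h : Fin n → F}
    (hh : h ∈ axes E M a) : h ᵥ* mat ψ y ∈ axes E M a := by
  classical
  have : FiniteDimensional F E := Module.finite_of_finrank_pos (by omega)
  have : Finite E := Module.finite_of_finite F
  have : Fintype E := Fintype.ofFinite E
  have base : ∀ ψ' : (Fin n → F) →ₗ[E] E, ψ' a = 0 → Algebra.norm F (1 + ψ' y) = 1 →
      ∀ k ∈ axes E M a, k ᵥ* mat ψ' y ∈ axes E M a := by
    intro ψ' hψ' hN k hk
    obtain ⟨g, hg, hgv⟩ := hM.in_mat (φ := ψ') (a := y) hN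
    have hfix : ∀ x ∈ line E a, (g : Matrix (Fin n) (Fin n) F) *ᵥ x = x := fun x hx => by
      obtain ⟨c, rfl⟩ := mem_line.1 hx
      rw [hgv, Matrix.add_mulVec, Matrix.one_mulVec, mat_mulVec, map_smul, hψ', smul_zero, zero_smul, add_zero]
    have hmem : k ᵥ* (g : Matrix (Fin n) (Fin n) F) ∈ axes E M a := by
      refine ⟨fun x hx => by rw [← dotProduct_mulVec, hfix x hx, hk.1 x hx], ?_⟩
      have := M.mul_mem (M.mul_mem (M.inv_mem hg) hk.2) (M.inv_mem (M.inv_mem hg))
      have hga : ((g⁻¹ : GL (Fin n) F) : Matrix (Fin n) (Fin n) F) *ᵥ a = a := by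
        conv_lhs => rw [← hfix a (self_mem_line a)]
        rw [gl_inv_mulVec_mulVec]
      rwa [conj_tv _ (hk.1 a (self_mem_line a)), inv_inv, hga] at this
    have := (axes E M a).sub_mem hmem hk
    rwa [hgv, Matrix.vecMul_add, Matrix.vecMul_one, add_sub_cancel_left] at this
  by_cases hu : ψ y = 0
  · exact base ψ hψ (by rw [hu, add_zero, map_one]) h hh
  · let good : E → Prop := fun b => ∀ k ∈ axes E M a, k ᵥ* mat ((b / ψ y) • ψ) y ∈ axes E M a
    have hmulmat : ∀ b c : E, mat ((b / ψ y) • ψ) y * mat ((c / ψ y) • ψ) y = mat (((b * c) / ψ y) • ψ) y :=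
      fun b c => Matrix.ext_of_mulVec_single fun i => by
        rw [← Matrix.mulVec_mulVec, mat_mulVec, mat_mulVec, mat_mulVec, map_smul]
        simp only [LinearMap.smul_apply, smul_eq_mul]
        congr 1
        field_simp
    have gmul : ∀ b c, good b → good c → good (b * c) := fun b c hb hc k hk => by
      rw [← hmulmat, ← Matrix.vecMul_vecMul]; exact hc _ (hb k hk)
    have gadd : ∀ b c, good b → good c → good (b + c) := fun b c hb hc k hk => by
      have e : mat (((b + c) / ψ y) • ψ) y = mat ((b / ψ y) • ψ) y + mat ((c / ψ y) • ψ) y :=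
        Matrix.ext_of_mulVec_single fun i => by
          rw [Matrix.add_mulVec, mat_mulVec, mat_mulVec, mat_mulVec, ← add_smul, add_div, add_smul,
            LinearMap.add_apply]
      rw [e, Matrix.vecMul_add]; exact (axes E M a).add_mem (hb k hk) (hc k hk)
    have g0 : good 0 := fun k hk => by
      have e : mat (((0 : E) / ψ y) • ψ) y = 0 := Matrix.ext_of_mulVec_single fun i => by
        rw [mat_mulVec, Matrix.zero_mulVec, zero_div, zero_smul, LinearMap.zero_apply, zero_smul]
      rw [e, Matrix.vecMul_zero]; exact (axes E M a).zero_mem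
    have gnorm : ∀ b : E, Algebra.norm F b = 1 → good (b - 1) := fun b hb => base _ (by simp [hψ]) (by
      rw [LinearMap.smul_apply, smul_eq_mul, div_mul_cancel₀ _ hu, add_sub_cancel, hb])
    obtain ⟨b₀, hb₀, hb₀1⟩ : ∃ b : E, Algebra.norm F b = 1 ∧ b ≠ 1 := by
      by_contra hall
      push Not at hall
      have htriv : (Units.map (Algebra.norm F : E →* F)).ker = ⊥ := by
        rw [eq_bot_iff]
        intro b hb
        exact Units.ext (hall _ (congrArg Units.val (MonoidHom.mem_ker.1 hb)))
      have := norm_kernel_card (F := F) (E := E)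
      rw [htriv, Subgroup.card_bot, one_mul, Module.natCard_eq_pow_finrank (K := F) (V := E)] at this
      have h2 : 2 ≤ Nat.card F := Finite.one_lt_card
      have h3 : Nat.card F ^ 2 ≤ Nat.card F ^ finrank F E := Nat.pow_le_pow_right (by omega) hr
      have h4 : Nat.card F ^ finrank F E = Nat.card F := by omega
      nlinarith
    have gpow : ∀ (b : E), good b → ∀ m : ℕ, good (b ^ (m + 1)) := fun b hb m => by
      induction m with
      | zero => simpa using hb
      | succ m ih => rw [pow_succ]; exact gmul _ _ ih hb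
    have g1 : good 1 := by
      have h1 := FiniteField.pow_card_sub_one_eq_one (b₀ - 1) (sub_ne_zero.2 hb₀1)
      have h2 := gpow _ (gnorm b₀ hb₀) (Fintype.card E - 1 - 1)
      have h3 : 1 < Fintype.card E := Fintype.one_lt_card
      rwa [show Fintype.card E - 1 - 1 + 1 = Fintype.card E - 1 by omega, h1] at h2
    have gneg : ∀ b, good b → good (-b) := fun b hb k hk => by
      have e : mat ((-b / ψ y) • ψ) y = -mat ((b / ψ y) • ψ) y := Matrix.ext_of_mulVec_single fun i => by
        rw [Matrix.neg_mulVec, mat_mulVec, mat_mulVec]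
        simp only [LinearMap.smul_apply, smul_eq_mul, neg_div, neg_mul, neg_smul]
      rw [e, Matrix.vecMul_neg]; exact (axes E M a).neg_mem (hb k hk)
    have ginv : ∀ b, good b → good b⁻¹ := fun b hb => by
      by_cases hb0 : b = 0
      · rw [hb0, _root_.inv_zero]; exact g0
      have h1 := FiniteField.pow_card_sub_one_eq_one b hb0
      have h3 : 2 < Fintype.card E := by
        rw [← Nat.card_eq_fintype_card, Module.natCard_eq_pow_finrank (K := F) (V := E)]
        have h2 : 2 ≤ Nat.card F := Finite.one_lt_card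
        have h4 : Nat.card F ^ 2 ≤ Nat.card F ^ finrank F E := Nat.pow_le_pow_right (by omega) hr
        nlinarith
      have h2 := gpow b hb (Fintype.card E - 3)
      rw [show Fintype.card E - 3 + 1 = Fintype.card E - 2 by omega] at h2
      rwa [show b⁻¹ = b ^ (Fintype.card E - 2) from (eq_inv_of_mul_eq_one_left (by
        rw [← pow_succ, show Fintype.card E - 2 + 1 = Fintype.card E - 1 by omega, h1])).symm]
    let C : Subfield E :=
      { carrier := {b | good b}
        mul_mem' := fun {b c} => gmul b c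
        one_mem' := g1
        add_mem' := fun {b c} => gadd b c
        zero_mem' := g0
        neg_mem' := fun {b} => gneg b
        inv_mem' := ginv }
    have hC : C = ⊤ := subring_eq_top hr C fun b hb => by
      have := gadd _ _ (gnorm b hb) g1
      rwa [sub_add_cancel] at this
    have : ψ y ∈ C := hC ▸ Subfield.mem_top _
    have h' := (this : good (ψ y)) h hh
    rwa [div_self hu, one_smul] at h'

theorem exists_notMem_line (hlt : finrank F E < n) {a : Fin n → F} (ha : a ≠ 0) : ∃ z, z ∉ line E a := by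
  by_contra h
  push Not at h
  have : line E a = ⊤ := eq_top_iff.2 fun z _ => h z
  have h2 := finrank_line (E := E) ha
  rw [this, finrank_top, Module.finrank_fin_fun] at h2
  omega

/-- The special linear group from a transvection. -/
theorem specialLinear_le_of_tv [Fintype F] (hr : 2 ≤ finrank F E) (hlt : finrank F E < n)
    {M : Subgroup (GL (Fin n) F)} (hM : HasSemi E M) {δ f : Fin n → F} (hδ : δ ≠ 0) (hf : f ≠ 0)
    (hfδ : f ⬝ᵥ δ = 0) (htv : tv δ f ∈ M) : Cfsg.Geo.specialLinear (Fin n) F ≤ M := by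
  classical
  have : FiniteDimensional F E := Module.finite_of_finrank_pos (by omega)
  have : Module.Finite E (Fin n → F) := Module.Finite.of_restrictScalars_finite F E _
  -- one axis vanishing on the line of the centre
  obtain ⟨k, hk, hk0⟩ : ∃ k ∈ axes E M δ, k ≠ 0 := by
    by_cases hL : ∀ x ∈ line E δ, f ⬝ᵥ x = 0
    · exact ⟨f, ⟨hL, htv⟩, hf⟩
    push Not at hL
    obtain ⟨_, hx, hx0⟩ := hL
    obtain ⟨c, rfl⟩ := mem_line.1 hx
    obtain ⟨z, hz⟩ := exists_notMem_line hlt hδ
    obtain ⟨φ, h1, h2⟩ := exists_fun_line (not_mem_line hz) c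
    obtain ⟨g, hg, hgv⟩ := hM.in_tv (φ := φ) (a := δ) h1
    have hgδ : (g : Matrix (Fin n) (Fin n) F) *ᵥ δ = δ := by
      rw [hgv, Matrix.add_mulVec, Matrix.one_mulVec, mat_mulVec, h1, zero_smul, add_zero]
    refine ⟨f ᵥ* mat φ δ, ⟨fun x hx => ?_, ?_⟩, fun h => hx0 ?_⟩
    · obtain ⟨d, rfl⟩ := mem_line.1 hx
      rw [vecMul_mat_dot, map_smul, h1, smul_zero, zero_smul, dotProduct_zero]
    · have h3 := M.mul_mem (M.mul_mem (M.inv_mem hg) htv) (M.inv_mem (M.inv_mem hg))
      have hga : ((g⁻¹ : GL (Fin n) F) : Matrix (Fin n) (Fin n) F) *ᵥ δ = δ := by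
        conv_lhs => rw [← hgδ]
        rw [gl_inv_mulVec_mulVec]
      rw [conj_tv _ hfδ, inv_inv, hga, hgv, Matrix.vecMul_add, Matrix.vecMul_one] at h3
      have h4 : (f ᵥ* mat φ δ) ⬝ᵥ δ = 0 := by rw [vecMul_mat_dot, h1, zero_smul, dotProduct_zero]
      rw [← tv_mul_tv_right hfδ h4] at h3
      exact (M.mul_mem_cancel_left htv).1 h3
    · have h3 := congrArg (fun u => u ⬝ᵥ z) h
      simpa [vecMul_mat_dot, h2] using h3
  -- all axes vanishing on that line
  have hall : ∀ h : Fin n → F, (∀ x ∈ line E δ, h ⬝ᵥ x = 0) → h ∈ axes E M δ := by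
    intro h hh
    obtain ⟨y, hy⟩ : ∃ y, k ⬝ᵥ y ≠ 0 := by
      by_contra hno
      push Not at hno
      exact hk0 (dotProduct_eq_zero k hno)
    let Ψ : ((Fin n → F) →ₗ[E] E) →ₗ[F] (Fin n → F) :=
      { toFun := fun ψ => k ᵥ* mat ψ y
        map_add' := fun ψ χ => dotProduct_eq _ _ fun x => by
          rw [add_dotProduct, vecMul_mat_dot, vecMul_mat_dot, vecMul_mat_dot, LinearMap.add_apply, add_smul,
            dotProduct_add]
        map_smul' := fun c ψ => dotProduct_eq _ _ fun x => by
          rw [RingHom.id_apply, smul_dotProduct, vecMul_mat_dot, vecMul_mat_dot, LinearMap.smul_apply, smul_assoc,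
            dotProduct_smul] }
    have hinj : Function.Injective Ψ := by
      refine (injective_iff_map_eq_zero _).2 fun ψ hψ => LinearMap.ext fun x => ?_
      by_contra hx
      have h3 := congrArg (fun u => u ⬝ᵥ ((ψ x)⁻¹ • x)) hψ
      simp only [Ψ, LinearMap.coe_mk, AddHom.coe_mk, vecMul_mat_dot, zero_dotProduct, map_smul, smul_eq_mul] at h3
      rw [inv_mul_cancel₀ hx, one_smul] at h3
      exact hy h3
    have : Module.Finite F ((Fin n → F) →ₗ[E] E) := Module.Finite.trans E _
    have hdim : finrank F ((Fin n → F) →ₗ[E] E) = finrank F (Fin n → F) := by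
      rw [← Module.finrank_mul_finrank F E ((Fin n → F) →ₗ[E] E), ← Module.finrank_mul_finrank F E (Fin n → F),
        Module.finrank_linearMap, Module.finrank_self, mul_one]
    obtain ⟨ψ, rfl⟩ := (LinearMap.injective_iff_surjective_of_finrank_eq_finrank hdim).1 hinj h
    have hψ : ψ δ = 0 := by
      by_contra hne
      have h3 := hh ((ψ δ)⁻¹ • δ) (mem_line.2 ⟨_, rfl⟩)
      simp only [Ψ, LinearMap.coe_mk, AddHom.coe_mk, vecMul_mat_dot, map_smul, smul_eq_mul] at h3
      rw [inv_mul_cancel₀ hne, one_smul] at h3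
      exact hy h3
    exact axes_mul hr hM hψ y hk
  -- all centres
  have hstep : ∀ (b b' : Fin n → F), b ≠ 0 → b' ∉ line E b →
      (∀ h : Fin n → F, (∀ x ∈ line E b, h ⬝ᵥ x = 0) → h ∈ axes E M b) →
      ∀ h : Fin n → F, (∀ x ∈ line E b', h ⬝ᵥ x = 0) → h ∈ axes E M b' := by
    intro b b' hb hb' hab h hh
    obtain ⟨g, hg, hgb, hglin⟩ := hM.exists_move hb (not_mem_line hb')
    have h0 : h ᵥ* (g : Matrix (Fin n) (Fin n) F) ∈ axes E M b := hab _ fun x hx => by
      obtain ⟨c, rfl⟩ := mem_line.1 hx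
      rw [← dotProduct_mulVec, hglin, hgb]
      exact hh _ (mem_line.2 ⟨c, rfl⟩)
    refine ⟨hh, ?_⟩
    have := M.mul_mem (M.mul_mem hg h0.2) (M.inv_mem hg)
    rwa [conj_tv _ (h0.1 b (self_mem_line b)), hgb, Matrix.vecMul_vecMul, ← Units.val_mul, mul_inv_cancel,
      Units.val_one, Matrix.vecMul_one] at this
  have hcen : ∀ a : Fin n → F, a ≠ 0 → ∀ h : Fin n → F, (∀ x ∈ line E a, h ⬝ᵥ x = 0) → h ∈ axes E M a := by
    intro a ha
    obtain ⟨z, hz⟩ := exists_notMem_line hlt hδ
    by_cases hmem : a ∈ line E δ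
    · have hz0 : z ≠ 0 := fun h0 => hz (h0 ▸ Submodule.zero_mem _)
      refine hstep z a hz0 (fun h1 => hz ?_) (hstep δ z hδ hz hall)
      rw [← line_eq hmem ha]
      rw [line_eq h1 ha]
      exact self_mem_line z
    · exact hstep δ a hδ hmem hall
  refine specialLinear_le_of_tv_mem fun a φ hφ => ?_
  by_cases ha : a = 0
  · subst ha; rw [tv_zero_left]; exact M.one_mem
  obtain ⟨z, hz⟩ := exists_notMem_line hlt ha
  have hz0 : z ≠ 0 := fun h0 => hz (h0 ▸ Submodule.zero_mem _)
  obtain ⟨e, he, heW⟩ := exists_separating (W := line E a) hz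
  set f1 : Fin n → F := (e ⬝ᵥ z)⁻¹ • e with hf1
  have hf1z : f1 ⬝ᵥ z = 1 := by rw [hf1, smul_dotProduct, smul_eq_mul, inv_mul_cancel₀ he]
  have hf1a : ∀ x ∈ line E a, f1 ⬝ᵥ x = 0 := fun x hx => by rw [hf1, smul_dotProduct, heW x hx, smul_zero]
  obtain ⟨π, hπz, hπa⟩ := exists_fun_line (a := z) (b := a) (fun c hc => by
    have hc0 : c ≠ 0 := fun h0 => ha (by rw [hc, h0, zero_smul])
    exact hz (mem_line.2 ⟨c⁻¹, by rw [hc, smul_smul, inv_mul_cancel₀ hc0, one_smul]⟩)) (1 : E)
  set f2 : Fin n → F := φ ᵥ* mat π a with hf2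
  have hf2z : ∀ x ∈ line E z, f2 ⬝ᵥ x = 0 := fun x hx => by
    obtain ⟨c, rfl⟩ := mem_line.1 hx
    rw [hf2, vecMul_mat_dot, map_smul, hπz, smul_zero, zero_smul, dotProduct_zero]
  have hf2a : f2 ⬝ᵥ a = 0 := by rw [hf2, vecMul_mat_dot, hπa, one_smul, hφ]
  have h1 := (hcen a ha f1 hf1a).2
  have h2 := (hcen z hz0 f2 hf2z).2
  have h0 := hf2z z (self_mem_line z)
  have h3 := M.mul_mem (M.mul_mem (M.mul_mem h1 h2) (M.inv_mem h1)) (M.inv_mem h2)
  rw [tv_conj_tv (hf1a a (self_mem_line a)) h0, hf1z, one_smul, hf2a, zero_smul, sub_zero, tv_inv h0,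
    tv_mul_tv_left (by rw [dotProduct_add, h0, hf2a, add_zero]) (by simp [h0]), add_neg_cancel_comm] at h3
  have h4 : ∀ x ∈ line E a, (φ - f2) ⬝ᵥ x = 0 := fun x hx => by
    obtain ⟨c, rfl⟩ := mem_line.1 hx
    rw [sub_dotProduct, hf2, vecMul_mat_dot, map_smul, hπa, smul_eq_mul, mul_one, sub_self]
  have := M.mul_mem h3 (hcen a ha _ h4).2
  rwa [tv_mul_tv_right hf2a (h4 a (self_mem_line a)), add_sub_cancel] at this

end CfsgLib.ExtFieldMax
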