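import Mathlib
import Cfsg.Agent.Lib.ExtFieldMax.Full
import Cfsg.Agent.Lib.Geo.AschProper

/-!
Maximality of the normaliser of a field subalgebra of prime degree below the dimension.
-/

set_option autoImplicit false
set_option linter.unusedSectionVars false

namespace CfsgLib.ExtFieldMax

open Matrix Module GeomClasses Cfsg.Geo
open scoped MatrixGroups

section overgroup

variable {F : Type*} [Field F] {n : ℕ}
variable {E : Type*} [Field E] [Algebra F E] [Module E (Fin n → F)] [IsScalarTower F E (Fin n → F)]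

/-- An overgroup that moves the spread contains the special linear group. -/
theorem specialLinear_le [Fintype F] (hr : (finrank F E).Prime) (hlt : finrank F E < n)
    {M : Subgroup (GL (Fin n) F)} (hM : HasSemi E M)
    (hbreak : ∃ g ∈ M, ∃ v : Fin n → F, v ≠ 0 ∧
      img g (line E v) ≠ line E ((g : Matrix (Fin n) (Fin n) F) *ᵥ v)) :
    specialLinear (Fin n) F ≤ M := by
  classical
  have h2 := hr.two_le
  obtain ⟨P⟩ := exists_adapted hr hM hbreak
  suffices h : ∃ δ f : Fin n → F, δ ≠ 0 ∧ f ≠ 0 ∧ f ⬝ᵥ δ = 0 ∧ tv δ f ∈ M by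
    obtain ⟨δ, f, hδ, hf, hfδ, htv⟩ := h
    exact specialLinear_le_of_tv h2 hlt hM hδ hf hfδ htv
  by_cases h3 : ∀ a b : Fin n → F, ∃ x, x ∉ Submodule.span E ({a, b} : Set (Fin n → F))
  · exact P.exists_tv_of_three hM h3
  by_cases hs : ∃ s : F, s ≠ 0 ∧ s ≠ 1
  · obtain ⟨s, hs0, hs1⟩ := hs
    exact P.exists_tv_of_scalar hM hs0 hs1
  have hF : ∀ a : F, a = 0 ∨ a = 1 := fun a => by
    by_contra h
    push Not at h
    exact hs ⟨a, h.1, h.2⟩
  by_cases hr3 : 3 ≤ finrank F E
  · exact P.exists_tv_of_degree hM hr3 hF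
  refine P.exists_tv_four hM (by omega) ?_ hF
  push Not at h3
  obtain ⟨a, b, hab⟩ := h3
  have : FiniteDimensional F E := Module.finite_of_finrank_pos (by omega)
  have : Module.Finite E (Fin n → F) := Module.Finite.of_restrictScalars_finite F E _
  have htop : Submodule.span E ({a, b} : Set (Fin n → F)) = ⊤ := eq_top_iff.2 fun x _ => hab x
  have hrank : finrank E (Fin n → F) ≤ 2 := by
    rw [← finrank_top E (Fin n → F), ← htop]
    exact (finrank_span_le_card _).trans (by
      rw [Set.toFinset_insert, Set.toFinset_singleton]; exact (Finset.card_insert_le _ _).trans (by simp))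
  have hind : LinearIndependent E ![P.d, P.w] :=
    (LinearIndependent.pair_iff' P.d_ne).2 fun c hc => P.hwL (mem_line.2 ⟨c, hc⟩)
  have h := hind.span_eq_top_of_card_eq_finrank (by
    have := hind.fintype_card_le_finrank
    simp only [Fintype.card_fin] at this ⊢
    omega)
  rwa [Matrix.range_cons, Matrix.range_cons, Matrix.range_empty, Set.union_empty, Set.singleton_union] at h

end overgroup

variable {F : Type*} [Field F] [Fintype F] {n r : ℕ} {K : Subalgebra F (Matrix (Fin n) (Fin n) F)}

theorem mem_normalizer_of_forall {g : GL (Fin n) F}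
    (h : ∀ k ∈ K, (g : Matrix (Fin n) (Fin n) F) * k * ((g⁻¹ : GL (Fin n) F) : Matrix (Fin n) (Fin n) F) ∈ K) :
    g ∈ subalgebraNormalizer K := by
  intro k
  refine ⟨h k, fun hk => ?_⟩
  let c : K → K := fun z => ⟨_, h z z.2⟩
  have hc : Function.Injective c := fun a b hab => by
    have h1 := congrArg Subtype.val hab
    exact Subtype.ext (g.isUnit.mul_left_cancel (g⁻¹.isUnit.mul_right_cancel h1))
  obtain ⟨z, hz⟩ := Finite.injective_iff_surjective.1 hc ⟨_, hk⟩
  have h1 := congrArg Subtype.val hz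
  have : (z : Matrix (Fin n) (Fin n) F) = k := g.isUnit.mul_left_cancel (g⁻¹.isUnit.mul_right_cancel h1)
  exact this ▸ z.2

/-- The normaliser in the special linear group is maximal. -/
theorem maximal_specialLinear (hr : r.Prime) (hlt : r < n) (hK : IsFieldSubalgebra r K)
    (M : Subgroup (GL (Fin n) F)) (hle : subalgebraNormalizer K ⊓ specialLinear (Fin n) F ≤ M)
    (hM : M ≤ specialLinear (Fin n) F) :
    M = subalgebraNormalizer K ⊓ specialLinear (Fin n) F ∨ M = specialLinear (Fin n) F := by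
  classical
  have : Nonempty (Fin n) := ⟨⟨0, by omega⟩⟩
  letI : Field K := Geo.FieldTransvection.fieldOf hK
  have hfin : finrank F K = r := hK.finrank_eq
  have hsmul : ∀ (a : K) (w : Fin n → F), a • w = (a : Matrix (Fin n) (Fin n) F) *ᵥ w := fun a w => rfl
  by_cases hN : M ≤ subalgebraNormalizer K
  · exact Or.inl (le_antisymm (le_inf hN hM) hle)
  refine Or.inr (le_antisymm hM (specialLinear_le (E := K) (by rwa [hfin]) (by rwa [hfin]) ?_ ?_))
  · rintro g hdet ⟨σ, hσ⟩
    refine hle ⟨mem_normalizer_of_forall fun k hk => ?_, mem_specialLinear.2 hdet⟩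
    have e : (g : Matrix (Fin n) (Fin n) F) * k * ((g⁻¹ : GL (Fin n) F) : Matrix (Fin n) (Fin n) F) =
        (σ ⟨k, hk⟩ : Matrix (Fin n) (Fin n) F) := by
      refine Matrix.ext_of_mulVec_single fun i => ?_
      rw [← Matrix.mulVec_mulVec, ← Matrix.mulVec_mulVec, ← hsmul ⟨k, hk⟩, hσ, gl_mulVec_inv_mulVec, hsmul]
    rw [e]
    exact (σ ⟨k, hk⟩).2
  · by_contra hno
    push Not at hno
    refine hN fun g hg => mem_normalizer_of_forall fun k hk => ?_
    set κ : Matrix (Fin n) (Fin n) F :=
      (g : Matrix (Fin n) (Fin n) F) * k * ((g⁻¹ : GL (Fin n) F) : Matrix (Fin n) (Fin n) F) with hκ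
    have hline : ∀ z : Fin n → F, ∃ c : K, κ *ᵥ z = c • z := by
      intro z
      by_cases hz : z = 0
      · exact ⟨0, by rw [hz, Matrix.mulVec_zero, smul_zero]⟩
      set v := ((g⁻¹ : GL (Fin n) F) : Matrix (Fin n) (Fin n) F) *ᵥ z with hv
      have himg := hno g hg v (gl_mulVec_ne_zero _ hz)
      rw [gl_mulVec_inv_mulVec] at himg
      have hmem : κ *ᵥ z ∈ img g (line K v) := by
        rw [hκ, ← Matrix.mulVec_mulVec, ← Matrix.mulVec_mulVec, ← hv, ← hsmul ⟨k, hk⟩]
        exact mulVec_mem_img (mem_line.2 ⟨_, rfl⟩)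
      rw [himg] at hmem
      obtain ⟨c, hc⟩ := mem_line.1 hmem
      exact ⟨c, hc.symm⟩
    choose c hc using hline
    obtain ⟨a, ha⟩ := exists_ne (0 : Fin n → F)
    have hall : ∀ b, κ *ᵥ b = c a • b := by
      have hind : ∀ x y : Fin n → F, x ≠ 0 → (∀ t : K, y ≠ t • x) → κ *ᵥ y = c x • y := by
        intro x y hx hxy
        obtain ⟨φ, h1, h2⟩ := exists_fun₂ hx hxy (1 : K) 0
        obtain ⟨χ, h3, h4⟩ := exists_fun₂ hx hxy (0 : K) 1
        have e := hc (x + y)
        rw [Matrix.mulVec_add, hc x, hc y, smul_add] at e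
        have e1 := congrArg φ e
        have e2 := congrArg χ e
        simp only [map_add, map_smul, h1, h2, h3, h4, smul_eq_mul, mul_one, mul_zero, add_zero, zero_add] at e1 e2
        rw [hc y, e2, e1]
      intro b
      by_cases hb : b ∈ line K a
      · obtain ⟨z, hz⟩ := exists_notMem_line (by rwa [hfin]) ha
        by_cases hb0 : b = 0
        · rw [hb0, Matrix.mulVec_zero, smul_zero]
        have hz0 : z ≠ 0 := fun h0 => hz (h0 ▸ Submodule.zero_mem _)
        have hzb : ∀ t : K, b ≠ t • z := fun t ht => hz (by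
          rw [← line_eq hb hb0, line_eq (mem_line.2 ⟨t, ht.symm⟩) hb0]
          exact self_mem_line z)
        have hza := hind a z ha (not_mem_line hz)
        rw [hc z] at hza
        rw [hind z b hz0 hzb, smul_left_injective K hz0 hza]
      · exact hind a b ha (not_mem_line hb)
    have : κ = (c a : Matrix (Fin n) (Fin n) F) := Matrix.ext_of_mulVec_single fun i => by rw [hall, hsmul]
    rw [this]
    exact (c a).2

theorem not_specialLinear_le (hr : r.Prime) (hlt : r < n) (hK : IsFieldSubalgebra r K) :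
    ¬ specialLinear (Fin n) F ≤ subalgebraNormalizer K :=
  Geo.Asch.not_specialLinear_le_field (by have := hr.two_le; omega) hr.one_lt hK

theorem isMaximalIn_specialLinear (hr : r.Prime) (hlt : r < n) (hK : IsFieldSubalgebra r K) :
    IsMaximalIn (specialLinear (Fin n) F) (subalgebraNormalizer K ⊓ specialLinear (Fin n) F) :=
  ⟨lt_of_le_not_ge inf_le_right fun h => not_specialLinear_le hr hlt hK (h.trans inf_le_left),
    fun M h1 h2 => maximal_specialLinear hr hlt hK M h1 h2⟩

/-- The determinant is surjective on the normaliser. -/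
theorem exists_det_eq (hr : r.Prime) (hlt : r < n) (hK : IsFieldSubalgebra r K) (u : Fˣ) :
    ∃ h ∈ subalgebraNormalizer K, Matrix.GeneralLinearGroup.det h = u := by
  classical
  have : Nonempty (Fin n) := ⟨⟨0, by omega⟩⟩
  letI : Field K := Geo.FieldTransvection.fieldOf hK
  have : FiniteDimensional F K := Module.finite_of_finrank_pos (by rw [hK.finrank_eq]; exact hr.pos)
  have : Finite K := Module.finite_of_finite F
  obtain ⟨c, hc⟩ := FiniteField.norm_surjective F K (u : F)
  obtain ⟨a, ha⟩ := exists_ne (0 : Fin n → F)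
  obtain ⟨φ, hφ, -⟩ := exists_fun (p := (⊥ : Submodule K (Fin n → F))) (x := a) (by simpa using ha) (c - 1)
  have hdet : (1 + mat φ a).det = (u : F) := by rw [det_one_add_mat, hφ, add_sub_cancel, hc]
  refine ⟨GeneralLinearGroup.mkOfDetNeZero (1 + mat φ a) (by rw [hdet]; exact u.ne_zero),
    mem_normalizer_of_forall fun k hk => ?_, Units.ext hdet⟩
  have e : (1 + mat φ a) * k = k * (1 + mat φ a) := Matrix.ext_of_mulVec_single fun i => by
    rw [← Matrix.mulVec_mulVec, ← Matrix.mulVec_mulVec, Matrix.add_mulVec, Matrix.add_mulVec, Matrix.one_mulVec,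
      Matrix.one_mulVec, mat_mulVec, mat_mulVec, Matrix.mulVec_add,
      show k *ᵥ Pi.single i 1 = (⟨k, hk⟩ : K) • (Pi.single i 1 : Fin n → F) from rfl, map_smul, smul_eq_mul, mul_smul]
    rfl
  set g := GeneralLinearGroup.mkOfDetNeZero (1 + mat φ a) (by rw [hdet]; exact u.ne_zero) with hg
  have hgv : (g : Matrix (Fin n) (Fin n) F) = 1 + mat φ a := rfl
  have e2 : (g : Matrix (Fin n) (Fin n) F) * k * ((g⁻¹ : GL (Fin n) F) : Matrix (Fin n) (Fin n) F) = k := by
    rw [hgv, e, ← hgv, mul_assoc, ← Units.val_mul, mul_inv_cancel, Units.val_one, mul_one]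
  rwa [e2]

/-- The normaliser is maximal in the general linear group. -/
theorem isCoatom_normalizer (hr : r.Prime) (hlt : r < n) (hK : IsFieldSubalgebra r K) :
    IsCoatom (subalgebraNormalizer K) := by
  refine ⟨fun h => not_specialLinear_le hr hlt hK (h ▸ le_top), fun L hL => ?_⟩
  rcases maximal_specialLinear hr hlt hK (L ⊓ specialLinear (Fin n) F) (inf_le_inf_right _ hL.le) inf_le_right with
    h | h
  · refine absurd (fun g hg => ?_) hL.not_ge
    obtain ⟨x, hx, hdx⟩ := exists_det_eq hr hlt hK (Matrix.GeneralLinearGroup.det g)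
    have h1 : x⁻¹ * g ∈ L ⊓ specialLinear (Fin n) F :=
      ⟨L.mul_mem (L.inv_mem (hL.le hx)) hg, MonoidHom.mem_ker.2 (by rw [map_mul, map_inv, hdx, inv_mul_cancel])⟩
    rw [h] at h1
    simpa using (subalgebraNormalizer K).mul_mem hx h1.1
  · refine eq_top_iff.2 fun g _ => ?_
    obtain ⟨x, hx, hdx⟩ := exists_det_eq hr hlt hK (Matrix.GeneralLinearGroup.det g)
    have h1 : x⁻¹ * g ∈ L ⊓ specialLinear (Fin n) F := by
      rw [h]; exact MonoidHom.mem_ker.2 (by rw [map_mul, map_inv, hdx, inv_mul_cancel])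
    simpa using L.mul_mem (hL.le hx) h1.1

end CfsgLib.ExtFieldMax
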